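import Cfsg.Agent.Lib.InvChar.ConjRank.Basic
import Cfsg.Agent.Lib.StructB.Misc
import Cfsg.Agent.Lib.Comp.Subnormal
import Cfsg.Agent.Lib.Solvable.MinNormal
import Cfsg.Prelude.Def_RootSubgroups

/-!
# Centraliser orders in groups with trivial centre: elementary facts
-/

set_option autoImplicit false

namespace CfsgLib.InvChar.ConjRank

open scoped Pointwise

universe u

variable {G : Type u} [Group G] [Finite G]

local notation "n[" x "]" => Nat.card (cent x)

theorem solvableRadical_spec :
    (Cfsg.solvableRadical G).Normal ∧ Group.IsSolvable ↥(Cfsg.solvableRadical G) :=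
  CfsgLib.Solvable.sSup_induction_normal (P := fun N : Subgroup G => Group.IsSolvable N) inferInstance
    (fun _ _ _ hB h1 h2 => by
      have := hB
      exact CfsgLib.Comp.isSolvable_sup (CfsgLib.Comp.le_normalizer_of_normal' _ _) h1 h2)
    _ fun _ h => h

omit [Finite G] in
theorem le_solvableRadical {N : Subgroup G} (hN : N.Normal) (hs : Group.IsSolvable N) :
    N ≤ Cfsg.solvableRadical G :=
  le_sSup ⟨hN, hs⟩

omit [Finite G] in
theorem isSolvable_of_quotient (N : Subgroup G) [N.Normal] (h1 : Group.IsSolvable N)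
    (h2 : Group.IsSolvable (G ⧸ N)) : Group.IsSolvable G :=
  Group.isSolvable_of_ker_le_range N.subtype (QuotientGroup.mk' N)
    (by rw [QuotientGroup.ker_mk', Subgroup.range_subtype])

theorem card_cent_ne_card_of_center (hZ : Subgroup.center G = ⊥) {x : G} (hx : x ≠ 1) :
    n[x] ≠ Nat.card G := by
  intro e
  refine hx (Subgroup.mem_bot.mp (hZ ▸ Subgroup.mem_center_iff.mpr fun g => ?_))
  exact (mem_cent.mp (by rw [Subgroup.eq_top_of_card_eq _ e]; exact Subgroup.mem_top g : g ∈ cent x)).eq

theorem factorization_le_of_dvd {s t : ℕ} (ht : t ≠ 0) (h : s ∣ t) (r : ℕ) :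
    s.factorization r ≤ t.factorization r :=
  (Nat.factorization_le_iff_dvd (fun e => ht (Nat.eq_zero_of_zero_dvd (e ▸ h))) ht).mpr h r

theorem factorization_card_le {H K : Subgroup G} (h : H ≤ K) (r : ℕ) :
    (Nat.card H).factorization r ≤ (Nat.card K).factorization r :=
  factorization_le_of_dvd Nat.card_pos.ne' (Subgroup.card_dvd_of_le h) r

theorem le_factorization_of_pow_dvd {r k t : ℕ} (hr : r.Prime) (ht : t ≠ 0) (h : r ^ k ∣ t) :
    k ≤ t.factorization r := (hr.pow_dvd_iff_le_factorization ht).mp h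

omit [Finite G] in
theorem cent_mul_eq_of_coprime {z u : G} (hc : Commute z u)
    (hco : (orderOf z).Coprime (orderOf u)) : cent (z * u) = cent z ⊓ cent u :=
  le_antisymm (cent_mul_le_of_coprime hc hco) fun _ h =>
    mem_cent.mpr ((mem_cent.mp h.1).mul_right (mem_cent.mp h.2))

omit [Finite G] in
theorem mul_ne_one_of_coprime {z u : G} (hz : z ≠ 1) (hco : (orderOf z).Coprime (orderOf u)) :
    z * u ≠ 1 := by
  intro e
  have e' : orderOf u = orderOf z := by rw [← inv_eq_of_mul_eq_one_right e, orderOf_inv]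
  rw [e', Nat.coprime_self] at hco
  exact hz (orderOf_eq_one_iff.mp hco)

omit [Finite G] in
theorem ne_one_of_orderOf_prime {x : G} {p : ℕ} (hp : p.Prime) (h : orderOf x = p) : x ≠ 1 :=
  fun e => hp.ne_one (by rw [← h, e, orderOf_one])

/-- An element lies in a subgroup as soon as all its powers of prime power order do. -/
theorem mem_of_parts (K : Subgroup G) (b : G)
    (h : ∀ k s i : ℕ, s.Prime → orderOf (b ^ k) = s ^ i → b ^ k ∈ K) : b ∈ K := by
  obtain ⟨n, hn⟩ : ∃ n, orderOf b = n := ⟨_, rfl⟩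
  induction n using Nat.strong_induction_on generalizing b with
  | _ n ih =>
  by_cases h1 : n = 1
  · rw [orderOf_eq_one_iff.mp (hn.trans h1)]; exact K.one_mem
  have hn0 : n ≠ 0 := hn ▸ (orderOf_pos b).ne'
  have hp := Nat.minFac_prime h1
  set p := n.minFac
  have hco : (p ^ n.factorization p).Coprime (n / p ^ n.factorization p) :=
    (Nat.coprime_ordCompl hp hn0).pow_left _
  have hd := Nat.ordProj_dvd n p
  have he : 1 < p ^ n.factorization p := Nat.one_lt_pow
    (hp.factorization_pos_of_dvd hn0 (Nat.minFac_dvd n)).ne' hp.one_lt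
  refine mem_of_pow_coprime K hco (ih _ ?_ (b ^ p ^ n.factorization p)
    (fun k s i hs hk => ?_) rfl) (h _ p (n.factorization p) hp ?_)
  · rw [orderOf_pow, hn, Nat.gcd_eq_right hd]
    exact Nat.div_lt_self (Nat.pos_of_ne_zero hn0) he
  · rw [← pow_mul] at hk ⊢; exact h _ s i hs hk
  · rw [orderOf_pow, hn, Nat.gcd_eq_right (Nat.div_dvd_of_dvd hd), Nat.div_div_self hd hn0]

/-- The centre of a Sylow subgroup of a subgroup. -/
theorem exists_orderOf_full_in (H : Subgroup G) {r : ℕ} (hr : r.Prime) (hdvd : r ∣ Nat.card H) :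
    ∃ z ∈ H, orderOf z = r ∧
      (Nat.card H).factorization r ≤ (Nat.card (H ⊓ cent z : Subgroup G)).factorization r := by
  obtain ⟨z, hz, hfull⟩ := exists_orderOf_full (G := H) hr hdvd
  refine ⟨(z : G), z.2, by rw [Subgroup.orderOf_coe, hz],
    le_factorization_of_pow_dvd hr Nat.card_pos.ne' (hfull.trans (dvd_of_eq ?_))⟩
  exact Nat.card_congr
    { toFun := fun u => ⟨((u : H) : G), (u : H).2,
        mem_cent.mpr (congrArg Subtype.val (mem_cent.mp u.2).eq)⟩
      invFun := fun u => ⟨⟨(u : G), u.2.1⟩, mem_cent.mpr (Subtype.ext (mem_cent.mp u.2.2).eq)⟩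
      left_inv := fun _ => rfl
      right_inv := fun _ => rfl }

/-- A central element of `r`-power order lies in every subgroup with full `r`-part. -/
theorem mem_of_central_of_full {K L : Subgroup G} (hKL : K ≤ L) {r : ℕ} (hr : r.Prime) {y : G}
    (hy : y ∈ L) {i : ℕ} (ho : orderOf y = r ^ i) (hc : L ≤ cent y)
    (hfull : (Nat.card L).factorization r ≤ (Nat.card K).factorization r) : y ∈ K := by
  have : Fact r.Prime := ⟨hr⟩
  obtain ⟨P⟩ := (inferInstance : Nonempty (Sylow r K))
  set Q := (P : Subgroup K).map K.subtype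
  have hQcard : Nat.card Q = r ^ (Nat.card K).factorization r := by
    rw [Subgroup.card_map_of_injective K.subtype_injective, P.card_eq_multiplicity]
  have hQK : Q ≤ K := Subgroup.map_subtype_le _
  have hy' : IsPGroup r (Subgroup.zpowers y) :=
    IsPGroup.of_card (n := i) (by rw [Nat.card_zpowers, ho])
  have hnorm : Q ≤ Subgroup.normalizer (Subgroup.zpowers y : Set G) := fun u hu => by
    have hcu := mem_cent.mp (hc (hKL (hQK hu)))
    refine Subgroup.mem_normalizer_iff.mpr fun v => ⟨fun hv => ?_, fun hv => ?_⟩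
    · obtain ⟨k, rfl⟩ := Subgroup.mem_zpowers_iff.mp hv
      rw [(hcu.zpow_right k).eq, mul_inv_cancel_right]; exact hv
    · obtain ⟨k, hk⟩ := Subgroup.mem_zpowers_iff.mp hv
      have : v = y ^ k := by
        have h2 : u⁻¹ * y ^ k * u = v := by rw [hk]; group
        rw [← h2, (hcu.inv_left.zpow_right k).eq, inv_mul_cancel_right]
      exact this ▸ Subgroup.zpow_mem_zpowers y k
  have hsup : IsPGroup r ↥(Q ⊔ Subgroup.zpowers y) :=
    IsPGroup.to_sup_of_normal_right' (P.isPGroup'.map _) hy' hnorm
  obtain ⟨k, hk⟩ := IsPGroup.iff_card.mp hsup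
  have hle : k ≤ (Nat.card K).factorization r := le_trans (le_factorization_of_pow_dvd hr
    Nat.card_pos.ne' (hk ▸ Subgroup.card_dvd_of_le
      (sup_le (hQK.trans hKL) (Subgroup.zpowers_le.mpr hy)))) hfull
  have heq : Q = Q ⊔ Subgroup.zpowers y := eq_of_le_of_dvd le_sup_left
    (by rw [hk, hQcard]; exact pow_dvd_pow r hle)
  exact hQK (heq ▸ Subgroup.mem_sup_right (Subgroup.mem_zpowers y))

/-- If a common divisor of all centraliser orders has full `r`-part, `r` does not divide `|G|`. -/
theorem false_of_full (hZ : Subgroup.center G = ⊥) {a r : ℕ} (hr : r.Prime)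
    (hdvd : r ∣ Nat.card G) (ha : ∀ x : G, x ≠ 1 → a ∣ n[x])
    (hfull : (Nat.card G).factorization r ≤ a.factorization r) : False := by
  have : Fact r.Prime := ⟨hr⟩
  obtain ⟨P⟩ := (inferInstance : Nonempty (Sylow r G))
  have htop : Subgroup.centralizer ((P : Subgroup G) : Set G) = ⊤ := by
    refine CfsgLib.StructB.eq_top_of_conj_cover _ fun g => ?_
    rcases eq_or_ne g 1 with rfl | hg
    · exact ⟨1, by simp [one_mem]⟩
    obtain ⟨S⟩ := (inferInstance : Nonempty (Sylow r (cent g)))
    have hcard : Nat.card ((S : Subgroup (cent g)).map (cent g).subtype) =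
        r ^ (Nat.card G).factorization r := by
      rw [Subgroup.card_map_of_injective (cent g).subtype_injective, S.card_eq_multiplicity]
      congr 1
      exact le_antisymm (factorization_le_of_dvd Nat.card_pos.ne'
        (Subgroup.card_subgroup_dvd_card _) r)
        (hfull.trans (factorization_le_of_dvd Nat.card_pos.ne' (ha g hg) r))
    obtain ⟨x, hx⟩ := MulAction.exists_smul_eq G (Sylow.ofCard _ hcard) P
    refine ⟨x, Subgroup.mem_centralizer_iff.mpr fun u hu => ?_⟩
    rw [← hx] at hu
    have hu' : u ∈ MulAut.conj x • (S : Subgroup (cent g)).map (cent g).subtype := hu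
    rw [Subgroup.mem_pointwise_smul_iff_inv_smul_mem, ← map_inv, MulAut.smul_def,
      MulAut.conj_apply, inv_inv] at hu'
    exact (mem_cent.mp (mem_cent_conj.mpr (Subgroup.map_subtype_le _ hu'))).eq
  have hPb : (P : Subgroup G) = ⊥ := by
    rw [← le_bot_iff, ← hZ]
    intro u hu
    rw [Subgroup.mem_center_iff]
    intro g
    exact (Subgroup.mem_centralizer_iff.mp (htop ▸ Subgroup.mem_top g) u hu).symm
  have h := P.dvd_card_of_dvd_card hdvd
  rw [hPb, Subgroup.card_bot] at h
  exact hr.ne_one (Nat.dvd_one.mp h)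

end CfsgLib.InvChar.ConjRank
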