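import Cfsg.Agent.Lib.InvChar.ConjRank.ApartGeneric

/-!
# No insoluble group with an abelian centraliser prime to the other orders

Elements of the largest kind outside the radical would make a centraliser a Frobenius complement;
otherwise they generate an abelian normal subgroup of the radical and the quotient by the radical
is a product of two nilpotent groups.
-/

set_option autoImplicit false

namespace CfsgLib.InvChar.ConjRank

open scoped Pointwise
open CfsgLib.Char

universe u

variable {G : Type u} [Group G] [Finite G]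

local notation "n[" x "]" => Nat.card (cent x)

variable {a b c : ℕ} {C : Subgroup G}

/-- The elements of the largest kind lie in the radical. -/
theorem Gen.mem_rad_of_b (hg : Gen G a b c C) {x : G} (hx : x ≠ 1) (hxb : n[x] = b) :
    x ∈ Cfsg.solvableRadical G := by
  classical
  by_contra hxR
  set R := Cfsg.solvableRadical G
  have hRn : R.Normal := solvableRadical_spec.1
  have hbot := hg.rad_inf_eq_bot
  -- the radical is trivial
  have hR : R = ⊥ := by
    have hX : C ≤ Subgroup.normalClosure ({x} : Set G) :=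
      (hg.le_rad_or Subgroup.normalClosure_normal).resolve_left
        fun h => hxR (h (Subgroup.subset_normalClosure (Set.mem_singleton x)))
    have hcl : Subgroup.normalClosure ({x} : Set G) ≤ Subgroup.centralizer (R : Set G) := by
      rw [Subgroup.normalClosure, Subgroup.closure_le]
      intro v hv
      obtain ⟨a', ha', hc'⟩ := Group.mem_conjugatesOfSet_iff.mp hv
      rw [Set.mem_singleton_iff] at ha'
      subst ha'
      obtain ⟨g, rfl⟩ := isConj_iff.mp hc'
      exact Subgroup.mem_centralizer_iff.mpr fun r hr =>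
        (mem_cent.mp (hg.rad_le_cent ((card_cent_conj g a').trans hxb) hr)).eq
    obtain ⟨h, hh, hh1⟩ := (Subgroup.bot_or_exists_ne_one C).resolve_left hg.C_ne_bot
    rw [eq_bot_iff, ← hbot]
    exact le_inf le_rfl fun r hr => hg.mem_of_commute hh hh1
      (Subgroup.mem_centralizer_iff.mp (hcl (hX hh)) r hr)
  have := Fintype.ofFinite G
  set B := cent x with hB
  have hcard : Nat.card B * Nat.card C = Nat.card G := by rw [hB, hxb, hg.card_C, hg.mul_eq]
  have huniq : ∀ w : G, w ≠ 1 → n[w] = b → ∀ g₁ g₂ : G, g₁⁻¹ * w * g₁ ∈ B →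
      g₂⁻¹ * w * g₂ ∈ B → g₁⁻¹ * g₂ ∈ B := fun w hw hwb g₁ g₂ h₁ h₂ =>
    coset_unique_of_vanish hg.comm hg.cent_eq (by rw [hB, hxb, hg.card_C]; exact hg.coprime) hcard
      (hwb.trans hxb.symm) (hg.vanish hwb fun hm => hw (Subgroup.mem_bot.mp (hR ▸ hm))) h₁ h₂
  have hTI : ∀ g : G, g ∉ B → B ⊓ MulAut.conj g • B = ⊥ := by
    intro g hgB
    by_contra hne'
    obtain ⟨v, hv, hv1⟩ := (Subgroup.bot_or_exists_ne_one _).resolve_left hne'
    obtain ⟨s, k, hs, hso⟩ := exists_prime_pow_order hv1
    set e := v ^ k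
    have he1 : e ≠ 1 := ne_one_of_orderOf_prime hs hso
    obtain ⟨heB, heB'⟩ := Subgroup.mem_inf.mp ((B ⊓ MulAut.conj g • B).pow_mem hv k)
    rw [Subgroup.mem_pointwise_smul_iff_inv_smul_mem, ← map_inv, MulAut.smul_def,
      MulAut.conj_apply, inv_inv] at heB'
    change e ∈ B at heB
    change g⁻¹ * e * g ∈ B at heB'
    rcases hg.ap.val e he1 with ea | eb | ec
    · have hn := isNilpotent_of_min hs hso (hg.ap.minC_low ea)
      set H := cent e
      have hxH : x ∈ H := mem_cent_comm.mp heB
      have hHB : B.subgroupOf H = ⊤ := by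
        refine (normalizerCondition_iff_only_full_group_self_normalizing.mp
          (Group.normalizerCondition_of_isNilpotent (h := hn))) _ (le_antisymm ?_ Subgroup.le_normalizer)
        intro m hm
        have h := (Subgroup.mem_normalizer_iff.mp hm ⟨x, hxH⟩).mp
          (Subgroup.mem_subgroupOf.mpr (self_mem_cent x))
        rw [Subgroup.mem_subgroupOf] at h
        simp only [Subgroup.coe_mul, Subgroup.coe_inv] at h
        rw [Subgroup.mem_subgroupOf]
        have h2 := huniq x hx hxb (m : G)⁻¹ 1 (by simpa [mul_assoc] using h)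
          (by simpa using self_mem_cent x)
        simpa using h2
      rw [Subgroup.subgroupOf_eq_top] at hHB
      have hx' : g * x * g⁻¹ ∈ H := mem_cent_comm.mp (mem_cent_conj.mpr heB')
      have h2 := huniq x hx hxb g⁻¹ 1 (by simpa using hHB hx') (by simpa using self_mem_cent x)
      exact hgB (by simpa using h2)
    · exact hgB (by simpa using huniq e he1 eb 1 g (by simpa using heB) heB')
    · have h1 : orderOf e ∣ b := hxb ▸ Subgroup.orderOf_dvd_natCard B heB
      have h2 : orderOf e ∣ c := ec ▸ Subgroup.orderOf_dvd_natCard (cent e) (self_mem_cent e)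
      rw [hso] at h1 h2
      exact hs.ne_one (Nat.eq_one_of_dvd_coprimes hg.coprime h1 h2)
  have hBbot : B ≠ ⊥ := fun h => hx (Subgroup.mem_bot.mp (h ▸ self_mem_cent x))
  have hBtop : B ≠ ⊤ := fun h => card_cent_ne_card_of_center hg.center hx
    (by rw [← hB, h, Subgroup.card_top])
  obtain ⟨N, -, hN, hc'⟩ := CfsgLib.Solvable.exists_frobeniusKernel (H := B) ⟨hBbot, hBtop, hTI⟩
  have hNc : Nat.card N = c := by
    have := hc'.card_mul_card
    rw [hB, hxb, ← hg.mul_eq, mul_comm b c] at this
    exact Nat.mul_right_cancel (hxb ▸ Nat.card_pos) this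
  rcases hg.le_rad_or hN with h | h
  · replace h : N ≤ R := h
    rw [hR, le_bot_iff] at h
    rw [h, Subgroup.card_bot] at hNc
    exact hg.c_ne_one hNc.symm
  · have hCN : C = N := eq_of_le_of_dvd h (by rw [hNc, hg.card_C])
    refine hg.not_le_rad hbot (le_solvableRadical (hCN ▸ hN) ?_)
    exact isSolvable_of_forall_commute fun u v => hg.comm.is_comm.comm u v

/-- A nilpotent subgroup which covers the `b`-part modulo the radical gives solvability. -/
theorem Gen.false_of_factor (hg : Gen G a b c C) (T : Subgroup G) (hT : Group.IsNilpotent T)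
    (hTc : (Nat.card T).Coprime c)
    (hb : b ∣ Nat.card ↥(Cfsg.solvableRadical G ⊔ T)) : False := by
  set R := Cfsg.solvableRadical G
  have hRn : R.Normal := solvableRadical_spec.1
  have hnorm : T ≤ Subgroup.normalizer (R : Set G) := CfsgLib.Comp.le_normalizer_of_normal' _ _
  have hco : (Nat.card ↥(R ⊔ T)).Coprime c := CfsgLib.Comp.coprime_card_sup hnorm
    (hg.nilpotent_of_inf_eq_bot hRn hg.rad_inf_eq_bot).2 hTc
  have hlcm : (Nat.card ↥(R ⊔ T)).lcm (Nat.card C) = Nat.card G := by
    refine Nat.dvd_antisymm (Nat.lcm_dvd (Subgroup.card_subgroup_dvd_card _)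
      (Subgroup.card_subgroup_dvd_card _)) ?_
    rw [hg.card_C, hco.lcm_eq_mul, ← hg.mul_eq]
    exact Nat.mul_dvd_mul_right hb c
  set π := QuotientGroup.mk' R
  have hCn : Group.IsNilpotent C := by
    let _ : CommGroup C := { (inferInstance : Group C) with mul_comm := hg.comm.is_comm.comm }
    infer_instance
  have h1 : Group.IsNilpotent (T.map π) :=
    Group.nilpotent_of_surjective (f := π.subgroupMap T) (π.subgroupMap_surjective T)
  have h2 : Group.IsNilpotent (C.map π) :=
    Group.nilpotent_of_surjective (f := π.subgroupMap C) (π.subgroupMap_surjective C)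
  refine hg.notSolvable (isSolvable_of_quotient R solvableRadical_spec.2
    (CfsgLib.Solvable.isSolvable_of_mul_nilpotent (T.map π) (C.map π) h1 h2 fun q => ?_))
  obtain ⟨g, rfl⟩ := QuotientGroup.mk'_surjective R q
  obtain ⟨h, hh, k, hk, rfl⟩ := (card_inf_eq_gcd hlcm).2 g
  obtain ⟨r, hr, t, ht, rfl⟩ := CfsgLib.Comp.exists_mul_of_mem_sup hnorm hh
  refine ⟨π t, Subgroup.mem_map_of_mem π ht, π k, Subgroup.mem_map_of_mem π hk, ?_⟩
  show π (r * t * k) = π t * π k
  rw [map_mul, map_mul, show π r = 1 from (QuotientGroup.eq_one_iff r).mpr hr, one_mul]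

/-- A central element of prime order in a nilpotent subgroup. -/
theorem exists_central_orderOf {H : Subgroup G} (hH : Group.IsNilpotent H) {q : ℕ} (hq : q.Prime)
    (hdvd : q ∣ Nat.card H) : ∃ v : H, orderOf v = q ∧ ∀ w : H, Commute v w := by
  have : Fact q.Prime := ⟨hq⟩
  obtain ⟨Q⟩ := (inferInstance : Nonempty (Sylow q H))
  have hQn : (Q : Subgroup H).Normal :=
    Q.normal_of_normalizerCondition (Group.normalizerCondition_of_isNilpotent (h := hH))
  have := Sylow.unique_of_normal Q hQn
  obtain ⟨v, hvQ, ov, hfull⟩ := exists_orderOf_full_in (Q : Subgroup H) hq (Q.dvd_card_of_dvd_card hdvd)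
  rw [Q.card_eq_multiplicity, hq.factorization_pow, Finsupp.single_eq_same] at hfull
  have hle : (Q : Subgroup H) ≤ cent v := inf_eq_left.mp (eq_of_le_of_dvd inf_le_left (by
    rw [Q.card_eq_multiplicity]
    exact (hq.pow_dvd_iff_le_factorization Nat.card_pos.ne').mpr hfull))
  refine ⟨v, ov, fun w => (mem_cent.mp (mem_of_parts (cent v) w fun k t i ht hti => ?_)).symm⟩
  by_cases htq : t = q
  · subst htq
    obtain ⟨T, hT⟩ := (IsPGroup.of_card (p := t) (n := i)
      (by rw [Nat.card_zpowers, hti] : Nat.card (Subgroup.zpowers (w ^ k)) = t ^ i)).exists_le_sylow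
    rw [Subsingleton.elim T Q] at hT
    exact hle (hT (Subgroup.mem_zpowers _))
  · refine mem_cent.mpr (CfsgLib.OddLocal.commute_of_coprime_of_isNilpotent hH ?_)
    rw [hti, ov]
    exact ((Nat.coprime_primes ht hq).mpr htq).pow_left i

/-- There is no insoluble group of this shape. -/
theorem Gen.false (hg : Gen G a b c C) : False := by
  classical
  set R := Cfsg.solvableRadical G
  have hRn : R.Normal := solvableRadical_spec.1
  obtain ⟨hRnil, hRc⟩ := hg.nilpotent_of_inf_eq_bot hRn hg.rad_inf_eq_bot
  obtain ⟨x₀, hx₀, hx₀b⟩ := hg.exists_b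
  obtain ⟨x, s, hs, ox, hxb⟩ := hg.ap.exists_prime_order_b hx₀ hx₀b
  have : Fact s.Prime := ⟨hs⟩
  have hx := ne_one_of_orderOf_prime hs ox
  have hsb : s ∣ b := hxb ▸ ox ▸ Subgroup.orderOf_dvd_natCard _ (self_mem_cent x)
  have hsc : s.Coprime c := hg.coprime.coprime_dvd_left hsb
  have hb0 : b ≠ 0 := hxb ▸ Nat.card_pos.ne'
  have hc0 : c ≠ 0 := hg.card_C ▸ Nat.card_pos.ne'
  have hfacG : ∀ r, r.Prime → ¬ r ∣ c → (Nat.card G).factorization r = b.factorization r := by
    intro r hr hrc
    rw [← hg.mul_eq, Nat.factorization_mul hb0 hc0, Finsupp.add_apply,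
      Nat.factorization_eq_zero_of_not_dvd hrc, add_zero]
  set X := Subgroup.normalClosure ({x} : Set G)
  have hXR : X ≤ R := Subgroup.normalClosure_le_normal
    (Set.singleton_subset_iff.mpr (hg.mem_rad_of_b hx hxb))
  have hXcent : X ≤ Subgroup.centralizer (R : Set G) := by
    refine Subgroup.normalClosure_le_normal (Set.singleton_subset_iff.mpr ?_)
    exact Subgroup.mem_centralizer_iff.mpr fun r hr => (mem_cent.mp (hg.rad_le_cent hxb hr)).eq
  have hXc : ∀ u ∈ X, ∀ v ∈ X, Commute u v := fun u hu v hv =>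
    Subgroup.mem_centralizer_iff.mp (hXcent hv) u (hXR hu)
  have hXs : ∀ u ∈ X, u ^ s = 1 := by
    intro u hu
    induction hu using Subgroup.closure_induction with
    | mem v hv =>
      obtain ⟨a', ha', hc'⟩ := Group.mem_conjugatesOfSet_iff.mp hv
      rw [Set.mem_singleton_iff] at ha'
      subst ha'
      obtain ⟨g, rfl⟩ := isConj_iff.mp hc'
      rw [conj_pow, ← ox, pow_orderOf_eq_one, mul_one, mul_inv_cancel]
    | one => exact one_pow s
    | mul v w hv hw ev ew => rw [(hXc v hv w hw).mul_pow, ev, ew, mul_one]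
    | inv v _ ev => rw [inv_pow, ev, inv_one]
  -- the centraliser of `X` is the radical
  set CX := Subgroup.centralizer (X : Set G)
  have hXn : X.Normal := Subgroup.normalClosure_normal
  have hCXn : CX.Normal := inferInstance
  have hCXR : CX ≤ R := by
    refine (hg.le_rad_or hCXn).resolve_right fun hle => ?_
    obtain ⟨h, hh, hh1⟩ := (Subgroup.bot_or_exists_ne_one C).resolve_left hg.C_ne_bot
    have hxX : x ∈ X := Subgroup.subset_normalClosure (Set.mem_singleton x)
    have hxC : x ∈ C := hg.mem_of_commute hh hh1 (Subgroup.mem_centralizer_iff.mp (hle hh) x hxX)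
    have e := congrArg (fun H : Subgroup G => Nat.card H) (hg.cent_eq x hxC hx)
    simp only [hxb, hg.card_C] at e
    exact hg.ap.hbc (e ▸ dvd_rfl)
  have htypea : ∀ {u : G}, u ∉ R → (orderOf u).Coprime c → n[u] = a := by
    intro u hu hco
    have hu1 : u ≠ 1 := fun e => hu (e ▸ R.one_mem)
    rcases hg.ap.val u hu1 with e | e | e
    · exact e
    · exact absurd (hg.mem_rad_of_b hu1 e) hu
    · have h1 : orderOf u ∣ c := e ▸ Subgroup.orderOf_dvd_natCard _ (self_mem_cent u)
      exact absurd (orderOf_eq_one_iff.mp (Nat.eq_one_of_dvd_coprimes hco dvd_rfl h1)) hu1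
  -- commuting elements outside the radical
  have hFP : ∀ {u v : G} {j : ℕ}, u ∉ R → v ∉ R → (orderOf u).Coprime c → orderOf v = s ^ j →
      (orderOf u).Coprime s → ¬ Commute u v := by
    intro u v j hu hv huc ov hus hcuv
    have hvc : (orderOf v).Coprime c := ov ▸ hsc.pow_left j
    have hu1 : u ≠ 1 := fun e => hu (e ▸ R.one_mem)
    have huv : (orderOf u).Coprime (orderOf v) := ov ▸ hus.pow_right j
    have hua := htypea hu huc
    have hva := htypea hv hvc
    have he : cent u = cent v := eq_of_le_of_dvd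
      (central_of_min hu1 (hg.ap.minC_low hua) (mem_cent.mpr hcuv.symm) huv) (by rw [hua, hva])
    let f : X →* G :=
      { toFun := fun m => u * (m : G) * u⁻¹ * (m : G)⁻¹
        map_one' := by simp
        map_mul' := fun m m' => by
          have hm : u * (m : G) * u⁻¹ ∈ X := hXn.conj_mem _ m.2 u
          have hm' : u * (m' : G) * u⁻¹ ∈ X := hXn.conj_mem _ m'.2 u
          have h1 : Commute (m : G)⁻¹ (u * (m' : G) * u⁻¹ * (m' : G)⁻¹) :=
            hXc _ (X.inv_mem m.2) _ (X.mul_mem hm' (X.inv_mem m'.2))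
          simp only [Subgroup.coe_mul]
          rw [mul_inv_rev]
          calc u * ((m : G) * m') * u⁻¹ * ((m' : G)⁻¹ * (m : G)⁻¹)
              = u * (m : G) * u⁻¹ * (u * (m' : G) * u⁻¹ * (m' : G)⁻¹ * (m : G)⁻¹) := by group
            _ = u * (m : G) * u⁻¹ * ((m : G)⁻¹ * (u * (m' : G) * u⁻¹ * (m' : G)⁻¹)) := by
                rw [h1.eq]
            _ = u * (m : G) * u⁻¹ * (m : G)⁻¹ * (u * (m' : G) * u⁻¹ * (m' : G)⁻¹) := by group }
    set W := f.range with hW
    have hWX : W ≤ X := by
      rintro _ ⟨m, rfl⟩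
      exact X.mul_mem (hXn.conj_mem _ m.2 u) (X.inv_mem m.2)
    have hWne : W ≠ ⊥ := by
      intro hWb
      refine hu (hCXR (Subgroup.mem_centralizer_iff.mpr fun m hm => ?_))
      have : f ⟨m, hm⟩ ∈ W := ⟨_, rfl⟩
      rw [hWb, Subgroup.mem_bot] at this
      exact (mul_inv_eq_iff_eq_mul.mp (mul_inv_eq_one.mp this)).symm
    have hvW : Subgroup.zpowers v ≤ Subgroup.normalizer (W : Set G) := by
      rw [Subgroup.zpowers_le]
      have hmap : ∀ w : G, Commute u w → ∀ y ∈ W, w * y * w⁻¹ ∈ W := by
        rintro w hw _ ⟨m, rfl⟩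
        refine ⟨⟨w * m * w⁻¹, hXn.conj_mem _ m.2 w⟩, ?_⟩
        show u * (w * m * w⁻¹) * u⁻¹ * (w * m * w⁻¹)⁻¹ = w * (u * m * u⁻¹ * (m : G)⁻¹) * w⁻¹
        calc u * (w * m * w⁻¹) * u⁻¹ * (w * m * w⁻¹)⁻¹
            = (u * w) * m * (u * w)⁻¹ * w * (m : G)⁻¹ * w⁻¹ := by group
          _ = (w * u) * m * (w * u)⁻¹ * w * (m : G)⁻¹ * w⁻¹ := by rw [hw.eq]
          _ = w * (u * m * u⁻¹ * (m : G)⁻¹) * w⁻¹ := by group
      rw [Subgroup.mem_normalizer_iff]
      refine fun y => ⟨hmap v hcuv y, fun hy => ?_⟩
      have := hmap v⁻¹ hcuv.inv_right _ hy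
      simpa [mul_assoc] using this
    have hsW : IsPGroup s W := fun w => ⟨1, Subtype.ext (by simpa using hXs w (hWX w.2))⟩
    obtain ⟨i, hi⟩ := IsPGroup.iff_card.mp hsW
    have hi0 : i ≠ 0 := fun e => hWne (Subgroup.eq_bot_of_card_eq _ (by rw [hi, e, pow_zero]))
    have hZ : IsPGroup s (Subgroup.zpowers v) := IsPGroup.of_card (n := j)
      (by rw [Nat.card_zpowers, ov])
    let _ : MulAction (Subgroup.zpowers v) W := MulAction.compHom W
      (W.normalizerMonoidHom.comp (Subgroup.inclusion hvW))
    have h1 : (1 : W) ∈ MulAction.fixedPoints (Subgroup.zpowers v) W := fun z =>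
      map_one (W.normalizerMonoidHom (Subgroup.inclusion hvW z))
    obtain ⟨⟨w, hwW⟩, hwfix, hw1⟩ := hZ.exists_fixed_point_of_prime_dvd_card_of_fixed_point W
      (hi ▸ dvd_pow_self s hi0) h1
    have hwv : Commute w v := by
      have h3 := congrArg Subtype.val (hwfix ⟨v, Subgroup.mem_zpowers v⟩)
      change v * w * v⁻¹ = w at h3
      exact (mul_inv_eq_iff_eq_mul.mp h3).symm
    have hwu : Commute w u := mem_cent.mp (he.symm.le (mem_cent.mpr hwv))
    obtain ⟨⟨m, hm⟩, hm'⟩ := hwW
    change u * m * u⁻¹ * m⁻¹ = w at hm'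
    have hpow : ∀ k : ℕ, u ^ k * m * (u ^ k)⁻¹ = w ^ k * m := by
      intro k
      induction k with
      | zero => simp
      | succ k ih =>
        calc u ^ (k + 1) * m * (u ^ (k + 1))⁻¹ = u * (u ^ k * m * (u ^ k)⁻¹) * u⁻¹ := by
              rw [pow_succ']; group
          _ = u * (w ^ k * m) * u⁻¹ := by rw [ih]
          _ = (u * w ^ k) * m * u⁻¹ := by group
          _ = (w ^ k * u) * m * u⁻¹ := by rw [(hwu.pow_left k).eq]
          _ = w ^ k * ((u * m * u⁻¹ * m⁻¹) * m) := by group
          _ = w ^ (k + 1) * m := by rw [hm', pow_succ, mul_assoc]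
    have h4 := hpow (orderOf u)
    rw [pow_orderOf_eq_one, one_mul, inv_one, mul_one, eq_comm, mul_eq_right] at h4
    refine hw1 (Subtype.ext (orderOf_eq_one_iff.mp (Nat.eq_one_of_dvd_coprimes hus
      (orderOf_dvd_of_pow_eq_one h4) ?_)).symm)
    exact orderOf_dvd_of_pow_eq_one (hm' ▸ hXs _ (X.mul_mem (hXn.conj_mem _ hm u) (X.inv_mem hm)))
  by_cases hexu : ∃ (u : G) (r i : ℕ), r.Prime ∧ r ≠ s ∧ ¬ r ∣ c ∧ orderOf u = r ^ i ∧ u ∉ R
  · obtain ⟨u, r, i, hr, hrs, hrc, ou, hu⟩ := hexu
    have : Fact r.Prime := ⟨hr⟩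
    have huc : (orderOf u).Coprime c := ou ▸ (hr.coprime_iff_not_dvd.mpr hrc).pow_left i
    have hus : (orderOf u).Coprime s := ou ▸ ((Nat.coprime_primes hr hs).mpr hrs).pow_left i
    have hua := htypea hu huc
    -- the `s`-part of `a` is smaller than that of the radical
    have hsmall : a.factorization s < (Nat.card R).factorization s := by
      by_contra hle
      push Not at hle
      obtain ⟨S⟩ := (inferInstance : Nonempty (Sylow s (cent u)))
      have hQ : (S : Subgroup (cent u)).map (cent u).subtype ≤ R ⊓ cent u := by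
        intro v hv
        have hv' := Subgroup.map_subtype_le _ hv
        refine ⟨?_, hv'⟩
        by_contra hvR
        obtain ⟨l, hl⟩ := (S.isPGroup'.map (cent u).subtype) ⟨v, hv⟩
        obtain ⟨j, -, hj⟩ := (Nat.dvd_prime_pow hs).mp
          (orderOf_dvd_of_pow_eq_one (congrArg Subtype.val hl : v ^ s ^ l = 1))
        exact hFP hu hvR huc hj hus (mem_cent.mp hv').symm
      refine hu (hCXR (Subgroup.mem_centralizer_iff.mpr fun y hy => ?_))
      obtain ⟨j, -, hj⟩ := (Nat.dvd_prime_pow hs).mp
        (by rw [pow_one]; exact orderOf_dvd_of_pow_eq_one (hXs y hy) : orderOf y ∣ s ^ 1)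
      refine (mem_cent.mp (mem_of_central_of_full (K := R ⊓ cent u) inf_le_left hs (hXR hy) hj
        (fun v hv => mem_cent.mpr (Subgroup.mem_centralizer_iff.mp (hXcent hy) v hv)) ?_).2).eq
      refine hle.trans (le_trans ?_ (factorization_card_le hQ s))
      rw [Subgroup.card_map_of_injective (cent u).subtype_injective, S.card_eq_multiplicity,
        hs.factorization_pow, Finsupp.single_eq_same, hua]
    -- the radical is an `s`-group
    have hRs : ∀ q, q.Prime → q ∣ Nat.card R → q = s := by
      intro q hq hqR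
      by_contra hqs
      obtain ⟨v, ov, hvc⟩ := exists_central_orderOf (H := R) hRnil hq hqR
      have hqc : ¬ q ∣ c := fun h => hq.ne_one (Nat.eq_one_of_dvd_coprimes hRc hqR h)
      have hRv : R ≤ cent (v : G) := fun w hw =>
        mem_cent.mpr (congrArg Subtype.val (hvc ⟨w, hw⟩).eq).symm
      have ov' : orderOf (v : G) = q := by rw [Subgroup.orderOf_coe, ov]
      have hv1 := ne_one_of_orderOf_prime hq ov'
      rcases hg.ap.val (v : G) hv1 with e | e | e
      · exact absurd (factorization_card_le hRv s) (by rw [e]; omega)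
      · -- the centraliser of `x` would be normal
        have heq : ∀ g : G, cent (g * x * g⁻¹) = cent (v : G) := by
          intro g
          have og : orderOf (g * x * g⁻¹) = s := by
            rw [← ox]; simpa using MulEquiv.orderOf_eq (MulAut.conj g) x
          have hgb : n[g * x * g⁻¹] = b := (card_cent_conj g x).trans hxb
          have hgR : g * x * g⁻¹ ∈ R := hg.mem_rad_of_b (ne_one_of_orderOf_prime hs og) hgb
          have hcomm : Commute (g * x * g⁻¹) (v : G) := mem_cent.mp (hRv hgR)
          have hco : (orderOf (g * x * g⁻¹)).Coprime (orderOf (v : G)) := by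
            rw [og, ov']; exact (Nat.coprime_primes hs hq).mpr (Ne.symm hqs)
          have he := cent_mul_eq_of_coprime hcomm hco
          have hR' : R ≤ cent (g * x * g⁻¹ * v) := he ▸ le_inf (hg.rad_le_cent hgb) hRv
          have hne := mul_ne_one_of_coprime (ne_one_of_orderOf_prime hs og) hco
          rcases hg.ap.val _ hne with e' | e' | e'
          · exact absurd (factorization_card_le hR' s) (by rw [e']; omega)
          · exact (eq_of_le_of_dvd (he.le.trans inf_le_left) (by rw [e', hgb])).symm.trans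
              (eq_of_le_of_dvd (he.le.trans inf_le_right) (by rw [e', e]))
          · have h1 : orderOf (g * x * g⁻¹ * v) ∣ c := e' ▸
              Subgroup.orderOf_dvd_natCard _ (self_mem_cent _)
            rw [hcomm.orderOf_mul_eq_mul_orderOf_of_coprime hco, og, ov'] at h1
            exact absurd ((dvd_mul_left q s).trans h1) hqc
        have hBR : cent x ≤ R := fun w hw => hCXR (Subgroup.mem_centralizer_iff.mpr fun y hy => by
          have hwall : X ≤ Subgroup.centralizer ({w} : Set G) := by
            show Subgroup.normalClosure _ ≤ _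
            rw [Subgroup.normalClosure, Subgroup.closure_le]
            intro z hz
            obtain ⟨a', ha', hc'⟩ := Group.mem_conjugatesOfSet_iff.mp hz
            rw [Set.mem_singleton_iff] at ha'
            subst ha'
            obtain ⟨g, rfl⟩ := isConj_iff.mp hc'
            have hw' : w ∈ cent (g * a' * g⁻¹) := by
              rw [heq g, ← heq 1]; simpa using hw
            exact mem_cent_comm.mp hw'
          exact (mem_cent.mp (hwall hy)).eq)
        refine hg.false_of_factor ⊥ inferInstance ?_ ?_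
        · rw [Subgroup.card_bot]; exact Nat.coprime_one_left c
        · rw [sup_bot_eq, ← hxb]; exact Subgroup.card_dvd_of_le hBR
      · exact hqc (e ▸ ov' ▸ Subgroup.orderOf_dvd_natCard _ (self_mem_cent (v : G)))
    -- `s` does not divide the index of the radical
    have hRfull : (Nat.card G).factorization s ≤ (Nat.card R).factorization s := by
      by_contra hlt
      push Not at hlt
      obtain ⟨S⟩ := (inferInstance : Nonempty (Sylow s G))
      have hSR : ¬ (S : Subgroup G) ≤ R := by
        intro h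
        have := factorization_card_le h s
        rw [S.card_eq_multiplicity, hs.factorization_pow, Finsupp.single_eq_same] at this
        omega
      obtain ⟨v, hvS, hvR⟩ := SetLike.not_le_iff_exists.mp hSR
      obtain ⟨l, hl⟩ := S.isPGroup' ⟨v, hvS⟩
      obtain ⟨j, -, hj⟩ := (Nat.dvd_prime_pow hs).mp
        (orderOf_dvd_of_pow_eq_one (congrArg Subtype.val hl : v ^ s ^ l = 1))
      have hva := htypea hvR (hj ▸ hsc.pow_left j)
      have hi0 : i ≠ 0 := fun e => hu (by
        rw [orderOf_eq_one_iff.mp (show orderOf u = 1 by rw [ou, e, pow_zero])]; exact R.one_mem)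
      have hra : r ∣ n[v] := by
        rw [hva, ← hua]
        exact (ou ▸ dvd_pow_self r hi0 : r ∣ orderOf u).trans
          (Subgroup.orderOf_dvd_natCard _ (self_mem_cent u))
      obtain ⟨⟨w, hw⟩, ow⟩ := exists_prime_orderOf_dvd_card' (G := cent v) r hra
      rw [Subgroup.orderOf_mk] at ow
      refine hFP (u := w) ?_ hvR ?_ hj ?_ (mem_cent.mp hw)
      · intro hwR
        exact hrs (hRs r hr (ow ▸ Subgroup.orderOf_dvd_natCard R hwR))
      · rw [ow]; exact hr.coprime_iff_not_dvd.mpr hrc
      · rw [ow]; exact (Nat.coprime_primes hr hs).mpr hrs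
    -- a nilpotent centraliser with the remaining parts of `b`
    have hi0 : i ≠ 0 := fun e => hu (by
      rw [orderOf_eq_one_iff.mp (show orderOf u = 1 by rw [ou, e, pow_zero])]; exact R.one_mem)
    obtain ⟨u₀, hu₀⟩ : ∃ u₀ : G, orderOf u₀ = r :=
      ⟨u ^ (orderOf u / r), orderOf_pow_orderOf_div (orderOf_pos u).ne' (ou ▸ dvd_pow_self r hi0)⟩
    have hnotR : ∀ {w : G} {q : ℕ}, q.Prime → q ≠ s → orderOf w = q → w ∉ R := fun hq hqs ow hwR =>
      hqs (hRs _ hq (ow ▸ Subgroup.orderOf_dvd_natCard R hwR))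
    have hu₀a := htypea (hnotR hr hrs hu₀) (hu₀ ▸ hr.coprime_iff_not_dvd.mpr hrc)
    refine hg.false_of_factor (cent u₀) (isNilpotent_of_min hr hu₀ (hg.ap.minC_low hu₀a))
      (hu₀a ▸ hg.aco) ((Nat.factorization_le_iff_dvd hb0 Nat.card_pos.ne').mp fun q => ?_)
    by_cases hq : q.Prime
    swap
    · rw [Nat.factorization_eq_zero_of_not_prime _ hq]; exact Nat.zero_le _
    rcases Nat.eq_zero_or_pos (b.factorization q) with h0 | hpos
    · rw [h0]; exact Nat.zero_le _
    have hqb := Nat.dvd_of_factorization_pos hpos.ne'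
    have hqc : ¬ q ∣ c := fun h => hq.ne_one (Nat.eq_one_of_dvd_coprimes hg.coprime hqb h)
    by_cases hqs : q = s
    · subst hqs
      rw [← hfacG q hq hqc]
      exact hRfull.trans (factorization_card_le le_sup_left q)
    · obtain ⟨w, ow, hwfull⟩ := exists_orderOf_full (G := G) hq
        (hqb.trans (hg.mul_eq ▸ dvd_mul_right b c))
      have hwa := htypea (hnotR hq hqs ow) (ow ▸ hq.coprime_iff_not_dvd.mpr hqc)
      refine le_trans ?_ (factorization_card_le le_sup_right q)
      rw [hu₀a, ← hwa, ← hfacG q hq hqc]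
      exact le_factorization_of_pow_dvd hq Nat.card_pos.ne' hwfull
  · -- all elements of other prime power orders lie in the radical
    push Not at hexu
    obtain ⟨S⟩ := (inferInstance : Nonempty (Sylow s G))
    refine hg.false_of_factor (S : Subgroup G) S.isPGroup'.isNilpotent ?_
      ((Nat.factorization_le_iff_dvd hb0 Nat.card_pos.ne').mp fun q => ?_)
    · rw [S.card_eq_multiplicity]; exact hsc.pow_left _
    by_cases hq : q.Prime
    swap
    · rw [Nat.factorization_eq_zero_of_not_prime _ hq]; exact Nat.zero_le _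
    rcases Nat.eq_zero_or_pos (b.factorization q) with h0 | hpos
    · rw [h0]; exact Nat.zero_le _
    have hqc : ¬ q ∣ c := fun h =>
      hq.ne_one (Nat.eq_one_of_dvd_coprimes hg.coprime (Nat.dvd_of_factorization_pos hpos.ne') h)
    rw [← hfacG q hq hqc]
    have : Fact q.Prime := ⟨hq⟩
    by_cases hqs : q = s
    · subst hqs
      refine le_trans ?_ (factorization_card_le (le_sup_right : (S : Subgroup G) ≤ R ⊔ S) q)
      rw [S.card_eq_multiplicity, hq.factorization_pow, Finsupp.single_eq_same]
    · obtain ⟨D⟩ := (inferInstance : Nonempty (Sylow q G))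
      have hDR : (D : Subgroup G) ≤ R := fun w hw => by
        obtain ⟨l, hl⟩ := D.isPGroup' ⟨w, hw⟩
        obtain ⟨j, -, hj⟩ := (Nat.dvd_prime_pow hq).mp
          (orderOf_dvd_of_pow_eq_one (congrArg Subtype.val hl : w ^ q ^ l = 1))
        exact hexu w q j hq hqs hqc hj
      refine le_trans ?_ (factorization_card_le (hDR.trans le_sup_left) q)
      rw [D.card_eq_multiplicity, hq.factorization_pow, Finsupp.single_eq_same]

end CfsgLib.InvChar.ConjRank
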