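import Cfsg.Agent.Lib.Char.TI
import Cfsg.Agent.Lib.Char.Burnside
import Cfsg.Agent.Lib.Char.LinearSum
import Cfsg.Agent.Lib.Char.Perm

/-!
# A self-centralising abelian factor

Let `G` be simple and `C` an abelian subgroup containing the centraliser of each of its
non-identity elements, with a subgroup `B` of complementary coprime order. Every nontrivial
constituent of the permutation character on `G ⧸ B` has degree prime to `|C|`, hence vanishes on
elements with centraliser of index `|C|`; such elements fix one coset only.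
-/

set_option autoImplicit false

namespace CfsgLib.InvChar.ConjRank

open CfsgLib.Char
open scoped ComplexConjugate

universe u

variable {G : Type u} [Group G]

/-- Burnside's vanishing lemma: a non-vanishing element acts as a scalar. -/
theorem exists_scalar_of_ne_zero [Finite G] {χ : G → ℂ} (hχ : Cfsg.IsIrrCharacter G χ) {d : ℕ}
    (hd : χ 1 = d) {z : G} (hcop : d.Coprime (Subgroup.centralizer ({z} : Set G)).index)
    (h0 : χ z ≠ 0) :
    ∃ (n : ℕ) (ρ : Representation ℂ G (Fin n → ℂ)), χ = ρ.character ∧ z ∈ scalarSubgroup ρ := by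
  classical
  obtain ⟨n, ρ, hρ, rfl⟩ := hχ
  have hfr : Module.finrank ℂ (Fin n → ℂ) = d := by
    rw [Representation.char_one] at hd; exact_mod_cast hd
  refine ⟨n, ρ, rfl, ?_⟩
  rcases char_eq_zero_or_norm_of_coprime ρ z (by rwa [hfr]) with h | hnorm
  · exact absurd h h0
  · exact (norm_char_eq_iff ρ z).mp hnorm

/-- In a simple group no element other than the identity acts as a scalar in a non-trivial
representation. -/
theorem map_eq_one_of_scalar [Finite G] [IsSimpleGroup G] (hG : ¬ IsMulCommutative G) {n : ℕ}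
    (ρ : Representation ℂ G (Fin n → ℂ)) {z : G} (hz : z ≠ 1) (hmem : z ∈ scalarSubgroup ρ)
    (g : G) : ρ g = 1 := by
  have htop : scalarSubgroup ρ = ⊤ :=
    ((scalarSubgroup_normal ρ).eq_bot_or_eq_top).resolve_left
      fun h => hz (Subgroup.mem_bot.mp (h ▸ hmem))
  have hker : (MonoidHom.ker ρ : Subgroup G) = ⊤ := by
    refine ((MonoidHom.normal_ker ρ).eq_bot_or_eq_top).resolve_left fun hbot => hG ⟨⟨fun a b => ?_⟩⟩
    obtain ⟨x, hx⟩ := (htop ▸ Subgroup.mem_top a : a ∈ scalarSubgroup ρ)
    have h1 : ρ (a * b) = ρ (b * a) := by ext v; simp [map_mul, hx]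
    exact (MonoidHom.ker_eq_bot_iff ρ).mp hbot h1
  exact MonoidHom.mem_ker.mp (hker ▸ Subgroup.mem_top g)

theorem indFun_one_congr [Fintype G] {H K : Subgroup G} (h : H = K) (g : G) :
    Cfsg.indFun H (fun _ => 1) g = Cfsg.indFun K (fun _ => 1) g := by
  subst h; rfl

section Linear

variable {C : Subgroup G}

/-- Conjugation by an element of the normaliser. -/
def conjHom (C : Subgroup G) (x : Subgroup.normalizer (C : Set G)) : C →* C where
  toFun h := ⟨(x : G)⁻¹ * h * x, by
    have := (Subgroup.mem_normalizer_iff''.mp x.2 (h : G)).mp h.2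
    exact this⟩
  map_one' := by ext; simp
  map_mul' a b := by ext; simp [mul_assoc]

@[simp] theorem conjHom_coe (x : Subgroup.normalizer (C : Set G)) (h : C) :
    ((conjHom C x h : C) : G) = (x : G)⁻¹ * h * x := rfl

/-- The action of the normaliser on linear characters. -/
def conjLin (l : C →* ℂˣ) (x : Subgroup.normalizer (C : Set G)) : C →* ℂˣ :=
  l.comp (conjHom C x)

theorem conjLin_mul (l : C →* ℂˣ) (x y : Subgroup.normalizer (C : Set G)) :
    conjLin (conjLin l x) y = conjLin l (y * x) := by
  refine MonoidHom.ext fun h => congrArg l (Subtype.ext ?_)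
  simp [mul_assoc]

theorem conjLin_one (l : C →* ℂˣ) : conjLin l 1 = l :=
  MonoidHom.ext fun h => congrArg l (Subtype.ext (by simp))

theorem conjLin_eq_iff_of_mem {x : Subgroup.normalizer (C : Set G)}
    (hcomm : IsMulCommutative C) (hx : (x : G) ∈ C) (l : C →* ℂˣ) : conjLin l x = l := by
  refine MonoidHom.ext fun h => congrArg l (Subtype.ext ?_)
  have := congrArg Subtype.val (hcomm.is_comm.comm h ⟨(x : G), hx⟩)
  simp only [Subgroup.coe_mul] at this
  rw [conjHom_coe, mul_assoc, this, inv_mul_cancel_left]

theorem mem_of_conjLin_eq [Finite G] (hcent : ∀ h ∈ C, h ≠ 1 → Subgroup.centralizer ({h} : Set G) = C)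
    (hcomm : IsMulCommutative C) {l : C →* ℂˣ} (hl : l ≠ 1)
    {x : Subgroup.normalizer (C : Set G)} (h : conjLin l x = l) : (x : G) ∈ C := by
  by_contra hx
  let δ : C → C := fun a => conjHom C x a * a⁻¹
  have hinj : Function.Injective δ := by
    intro a b hab
    have h1 : conjHom C x (a * b⁻¹) = a * b⁻¹ := by
      let : CommGroup C := { (inferInstance : Group C) with mul_comm := hcomm.is_comm.comm }
      rw [map_mul, map_inv, ← div_eq_mul_inv, ← div_eq_mul_inv]
      refine div_eq_div_iff_div_eq_div.mp ?_
      simpa [δ, div_eq_mul_inv] using hab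
    by_contra hne
    have hne' : ((a * b⁻¹ : C) : G) ≠ 1 := fun e => hne (mul_inv_eq_one.mp (Subtype.ext e))
    have h2 := congrArg Subtype.val h1
    rw [conjHom_coe, mul_assoc] at h2
    exact hx ((hcent _ (a * b⁻¹).2 hne').le
      (Subgroup.mem_centralizer_singleton_iff.mpr (inv_mul_eq_iff_eq_mul.mp h2).symm))
  refine hl (MonoidHom.ext fun a => ?_)
  obtain ⟨b, rfl⟩ := (Finite.injective_iff_surjective.mp hinj) a
  have h3 : l (conjHom C x b) = l b := DFunLike.congr_fun h b
  simp [δ, map_mul, map_inv, h3]

/-- The values of a linear character. -/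
noncomputable def lval (l : C →* ℂˣ) : C → ℂ := fun h => (l h : ℂ)

open scoped Classical in
theorem classInner_lval [Fintype C] (l m : C →* ℂˣ) :
    Cfsg.classInner (lval l) (lval m) = if l = m then 1 else 0 := by
  split_ifs with h
  · subst h; exact irr_classInner_self (isIrrCharacter_linear l)
  · exact irr_classInner_ne (isIrrCharacter_linear l) (isIrrCharacter_linear m)
      fun e => h (MonoidHom.ext fun a => Units.ext (congrFun e a))

variable [Fintype G]

theorem indFun_apply_of_self (hcomm : IsMulCommutative C)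
    (hcent : ∀ h ∈ C, h ≠ 1 → Subgroup.centralizer ({h} : Set G) = C)
    (θ : C → ℂ) (hθ : θ 1 = 0) [Fintype (Subgroup.normalizer (C : Set G))] (h : C) :
    Cfsg.indFun C θ (h : G) =
      (Nat.card C : ℂ)⁻¹ * ∑ x : Subgroup.normalizer (C : Set G), θ (conjHom C x h) := by
  classical
  by_cases h1 : h = 1
  · subst h1; simp [indFun_apply_one, hθ]
  have hterm : ∀ x : G, x ∉ Subgroup.normalizer (C : Set G) →
      Cfsg.extendByZero C θ (x⁻¹ * (h : G) * x) = 0 := by
    intro x hx
    refine extendByZero_of_not_mem θ fun hm => hx ?_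
    have hne : x⁻¹ * (h : G) * x ≠ 1 := fun e => h1 (Subtype.ext (by
      have := congrArg (fun y => x * y * x⁻¹) e; simpa [mul_assoc] using this))
    have e1 := hcent _ hm hne
    have e2 := hcent _ h.2 (fun e => h1 (Subtype.ext e))
    rw [Subgroup.mem_normalizer_iff'']
    intro y
    show y ∈ C ↔ x⁻¹ * y * x ∈ C
    constructor
    · intro hy
      rw [← e1, Subgroup.mem_centralizer_singleton_iff]
      have := congrArg Subtype.val (hcomm.is_comm.comm (⟨y, hy⟩ : C) h)
      simp only [Subgroup.coe_mul] at this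
      calc x⁻¹ * y * x * (x⁻¹ * (h : G) * x) = x⁻¹ * (y * (h : G)) * x := by group
        _ = x⁻¹ * ((h : G) * y) * x := by rw [this]
        _ = x⁻¹ * (h : G) * x * (x⁻¹ * y * x) := by group
    · intro hy
      rw [← e2, Subgroup.mem_centralizer_singleton_iff]
      rw [← e1, Subgroup.mem_centralizer_singleton_iff] at hy
      calc y * (h : G) = x * ((x⁻¹ * y * x) * (x⁻¹ * (h : G) * x)) * x⁻¹ := by group
        _ = x * ((x⁻¹ * (h : G) * x) * (x⁻¹ * y * x)) * x⁻¹ := by rw [hy]
        _ = (h : G) * y := by group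
  rw [indFun_def]
  congr 1
  rw [← Finset.sum_subset (Finset.subset_univ (Finset.univ.filter fun x : G =>
      x ∈ Subgroup.normalizer (C : Set G))) (fun x _ hx => hterm x (by simpa using hx))]
  rw [Finset.sum_subtype (p := fun x : G => x ∈ Subgroup.normalizer (C : Set G))]
  · refine Finset.sum_congr rfl fun x _ => ?_
    rw [← extendByZero_coe C θ (conjHom C x h), conjHom_coe]
  · simp

variable [Fintype C]

/-- Two orbits give generalized characters of norm two. -/
theorem classInner_indFun_lval_sub (hcomm : IsMulCommutative C)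
    (hcent : ∀ h ∈ C, h ≠ 1 → Subgroup.centralizer ({h} : Set G) = C)
    {l m : C →* ℂˣ} (hl : l ≠ 1) (hm : m ≠ 1)
    (hlm : ∀ x : Subgroup.normalizer (C : Set G), conjLin l x ≠ m) :
    Cfsg.classInner (Cfsg.indFun C (lval l - lval m)) (Cfsg.indFun C (lval l - lval m)) = 2 := by
  classical
  have := Fintype.ofFinite (Subgroup.normalizer (C : Set G))
  set θ := lval l - lval m with hθ
  have hθ1 : θ 1 = 0 := by simp [hθ, lval]
  rw [frobenius_reciprocity C θ _ (indFun_isClassFunction C θ)]
  have hfun : (fun h : C => Cfsg.indFun C θ (h : G)) =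
      (Nat.card C : ℂ)⁻¹ • ∑ x : Subgroup.normalizer (C : Set G),
        (lval (conjLin l x) - lval (conjLin m x)) := by
    funext h
    rw [indFun_apply_of_self hcomm hcent θ hθ1 h, Pi.smul_apply, Finset.sum_apply, smul_eq_mul]
    rfl
  rw [hfun, classInner_smul_right, classInner_sum_right]
  have hterm : ∀ x : Subgroup.normalizer (C : Set G),
      Cfsg.classInner θ (lval (conjLin l x) - lval (conjLin m x)) =
        if (x : G) ∈ C then 2 else 0 := by
    intro x
    have hml : conjLin m x ≠ l := fun e => hlm x⁻¹ (by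
      rw [← e, conjLin_mul, inv_mul_cancel, conjLin_one])
    rw [hθ, classInner_sub_left, classInner_sub_right, classInner_sub_right, classInner_lval,
      classInner_lval, classInner_lval, classInner_lval]
    rw [if_neg (fun e : l = conjLin m x => hml e.symm), if_neg (fun e : m = conjLin l x => hlm x e.symm)]
    by_cases hx : (x : G) ∈ C
    · rw [if_pos hx, if_pos (conjLin_eq_iff_of_mem hcomm hx l).symm,
        if_pos (conjLin_eq_iff_of_mem hcomm hx m).symm]
      norm_num
    · rw [if_neg hx, if_neg fun e => hx (mem_of_conjLin_eq hcent hcomm hl e.symm),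
        if_neg fun e => hx (mem_of_conjLin_eq hcent hcomm hm e.symm)]
      norm_num
  rw [Finset.sum_congr rfl fun x _ => hterm x, ← Finset.sum_filter, Finset.sum_const, nsmul_eq_mul]
  have hcard : ((Finset.univ.filter fun x : Subgroup.normalizer (C : Set G) => (x : G) ∈ C)).card =
      Nat.card C := by
    rw [← Fintype.card_subtype, ← Nat.card_eq_fintype_card]
    exact Nat.card_congr
      { toFun := fun x => ⟨x.1.1, x.2⟩
        invFun := fun h => ⟨⟨h.1, Subgroup.le_normalizer h.2⟩, h.2⟩
        left_inv := fun x => rfl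
        right_inv := fun h => rfl }
  rw [hcard, map_inv₀, Complex.conj_natCast, inv_mul_cancel_left₀]
  exact_mod_cast Nat.card_pos.ne'

end Linear

variable [Fintype G]

/-- An element whose centraliser has index `|C|` lies in one conjugate of `B` only. -/
theorem coset_unique_of_vanish {C B : Subgroup G}
    (hcomm : IsMulCommutative C)
    (hcent : ∀ h ∈ C, h ≠ 1 → Subgroup.centralizer ({h} : Set G) = C)
    (hcop : (Nat.card B).Coprime (Nat.card C)) (hcard : Nat.card B * Nat.card C = Nat.card G)
    {z : G} (hzc : Nat.card (Subgroup.centralizer ({z} : Set G)) = Nat.card B)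
    (hvan : ∀ (n : ℕ) (ρ : Representation ℂ G (Fin n → ℂ)), z ∈ scalarSubgroup ρ →
      ∀ h ∈ C, ρ h = 1)
    {g₁ g₂ : G} (h₁ : g₁⁻¹ * z * g₁ ∈ B) (h₂ : g₂⁻¹ * z * g₂ ∈ B) : g₁⁻¹ * g₂ ∈ B := by
  classical
  have := Fintype.ofFinite (Cfsg.IrrCharacter G)
  have := Fintype.ofFinite (C →* ℂˣ)
  have := Fintype.ofFinite C
  have := Fintype.ofFinite B
  have := Fintype.ofFinite (Subgroup.normalizer (C : Set G))
  have hidx : B.index = Nat.card C :=
    Nat.eq_of_mul_eq_mul_left Nat.card_pos ((Subgroup.card_mul_index B).trans hcard.symm)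
  set π : G → ℂ := Cfsg.indFun B (fun _ => 1) with hπ
  have hπcl : Cfsg.IsClassFunction G π := indFun_isClassFunction B _
  have hπchar : Cfsg.IsCharacter G π := isCharacter_indFun B isCharacter_one
  have hπC : ∀ h : C, π (h : G) = if h = 1 then (Nat.card C : ℂ) else 0 := by
    intro h
    split_ifs with h1
    · subst h1; simp [hπ, indFun_apply_one, hidx]
    · rw [hπ, indFun_def, Finset.sum_eq_zero, mul_zero]
      intro x _
      refine extendByZero_of_not_mem _ fun hm => h1 (Subtype.ext ?_)
      have ho : orderOf (x⁻¹ * (h : G) * x) = orderOf (h : G) := by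
        simpa using MulEquiv.orderOf_eq (MulAut.conj x⁻¹) (h : G)
      have d1 : orderOf (h : G) ∣ Nat.card B := ho ▸ Subgroup.orderOf_dvd_natCard B hm
      have d2 : orderOf (h : G) ∣ Nat.card C := Subgroup.orderOf_dvd_natCard C h.2
      exact orderOf_eq_one_iff.mp (Nat.eq_one_of_dvd_coprimes hcop d1 d2)
  -- multiplicities
  choose k hk using fun χ : Cfsg.IrrCharacter G =>
    classInner_isCharacter_nat hπchar (irr_isCharacter χ.2)
  choose m hm using fun (χ : Cfsg.IrrCharacter G) (l : C →* ℂˣ) =>
    classInner_isCharacter_nat (isCharacter_restrict (irr_isCharacter χ.2) C)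
      (irr_isCharacter (isIrrCharacter_linear l))
  choose d hd hd1 using fun χ : Cfsg.IrrCharacter G => irr_apply_one_pos χ.2
  have hexp : π = ∑ χ : Cfsg.IrrCharacter G, (k χ : ℂ) • (χ : G → ℂ) := by
    conv_lhs => rw [classFunction_eq_sum hπcl]
    simp only [hk]
  have hone : ∀ l, ∑ χ, k χ * m χ l = 1 := by
    intro l
    have e : Cfsg.classInner (fun h : C => π (h : G)) (lval l) = 1 := by
      rw [classInner_def, Finset.sum_eq_single (1 : C)]
      · rw [hπC 1, if_pos rfl]; simp [lval]
      · intro h _ h1; simp [hπC, h1]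
      · simp
    have e2 : (fun h : C => π (h : G)) =
        ∑ χ : Cfsg.IrrCharacter G, (k χ : ℂ) • (fun h : C => (χ : G → ℂ) (h : G)) := by
      funext h
      rw [hexp]
      simp [Finset.sum_apply]
    rw [e2, classInner_sum_left] at e
    simp only [classInner_smul_left] at e
    have e3 : ∀ χ : Cfsg.IrrCharacter G,
        Cfsg.classInner (fun h : C => (χ : G → ℂ) (h : G)) (lval l) = (m χ l : ℂ) :=
      fun χ => hm χ l
    simp only [e3] at e
    exact_mod_cast e
  have hle : ∀ χ l, k χ * m χ l ≤ 1 := fun χ l => hone l ▸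
    Finset.single_le_sum (f := fun χ => k χ * m χ l) (fun _ _ => Nat.zero_le _) (Finset.mem_univ χ)
  have huniq : ∀ χ ψ l, k χ * m χ l ≠ 0 → k ψ * m ψ l ≠ 0 → χ = ψ := by
    intro χ ψ l h h'
    by_contra hne
    have := Finset.add_le_sum (f := fun χ => k χ * m χ l) (fun _ _ => Nat.zero_le _)
      (Finset.mem_univ χ) (Finset.mem_univ ψ) hne
    rw [hone l] at this
    omega
  have hdeg : ∀ χ, d χ = ∑ l, m χ l := by
    intro χ
    have e : (d χ : ℂ) = ∑ l, (m χ l : ℂ) := by
      simp only [← hm, classInner_def, ← Finset.mul_sum]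
      rw [Finset.sum_comm]
      simp only [← Finset.mul_sum, ← map_sum]
      have hcom : commutator C = ⊥ := by
        rw [commutator_def, Subgroup.commutator_eq_bot_iff_le_centralizer]
        intro a _
        rw [Subgroup.mem_centralizer_iff]
        intro b _
        exact hcomm.is_comm.comm b a
      have hidx1 : (commutator C).index = Nat.card C := by rw [hcom, Subgroup.index_bot]
      rw [Finset.sum_eq_single (1 : C)]
      · rw [sum_linear_apply, if_pos (one_mem _), hidx1, Complex.conj_natCast, Subgroup.coe_one,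
          hd1, mul_comm (d χ : ℂ), ← mul_assoc, inv_mul_cancel₀, one_mul]
        exact_mod_cast Nat.card_pos.ne'
      · intro h _ h1
        rw [sum_linear_apply, if_neg (by rwa [hcom, Subgroup.mem_bot])]
        simp
      · simp
    exact_mod_cast e
  let one' : Cfsg.IrrCharacter G := ⟨fun _ => 1, isIrrCharacter_one⟩
  have hk1 : k one' = 1 := by
    have e := hk one'
    rw [hπ, frobenius_reciprocity B _ _ (irr_isClassFunction one'.2)] at e
    have e2 : Cfsg.classInner (fun _ : B => (1 : ℂ)) (fun h : B => (one' : G → ℂ) h) = 1 :=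
      irr_classInner_self isIrrCharacter_one
    rw [e2] at e
    exact_mod_cast e.symm
  have hm1 : m one' 1 = 1 := by
    have e := hm one' 1
    have e2 : Cfsg.classInner (fun h : C => (one' : G → ℂ) h)
        (fun h : C => (((1 : C →* ℂˣ) h : ℂˣ) : ℂ)) = 1 := by
      simpa [one'] using irr_classInner_self (isIrrCharacter_one (G := C))
    rw [e2] at e
    exact_mod_cast e.symm
  have hinv : ∀ χ l (x : Subgroup.normalizer (C : Set G)), m χ (conjLin l x) = m χ l := by
    intro χ l x
    have e : ((m χ (conjLin l x) : ℂ)) = (m χ l : ℂ) := by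
      rw [← hm, ← hm, classInner_def, classInner_def]
      congr 1
      have hb : Function.Bijective (conjHom C x) :=
        Finite.injective_iff_bijective.mp fun a b hab => Subtype.ext (by
          have := congrArg Subtype.val hab
          simpa using this)
      refine Fintype.sum_bijective (conjHom C x) hb _ _ fun h => ?_
      have := irr_isClassFunction χ.2 (h : G) (x : G)⁻¹
      rw [inv_inv] at this
      rw [conjHom_coe, this]
      rfl
    exact_mod_cast e
  have hkey : ∀ χ : Cfsg.IrrCharacter G, χ ≠ one' → k χ ≠ 0 → (d χ).Coprime (Nat.card C) := by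
    intro χ hχ1 hkχ
    have hm01 : ∀ l, m χ l ≤ 1 := fun l =>
      le_trans (Nat.le_mul_of_pos_left _ (Nat.pos_of_ne_zero hkχ)) (hle χ l)
    set J := Finset.univ.filter fun l => m χ l ≠ 0 with hJ
    have hcardJ : J.card = d χ := by
      rw [hdeg, hJ, Finset.card_filter]
      exact Finset.sum_congr rfl fun l _ => by have := hm01 l; split_ifs <;> omega
    have h1J : (1 : C →* ℂˣ) ∉ J := fun h =>
      hχ1 (huniq χ one' 1 (mul_ne_zero hkχ (Finset.mem_filter.mp h).2) (by simp [hk1, hm1]))
    by_cases hall : ∀ l : C →* ℂˣ, l ≠ 1 → l ∈ J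
    · have hJe : J = Finset.univ.erase 1 := by
        ext l
        simp only [Finset.mem_erase, Finset.mem_univ, and_true]
        exact ⟨fun h e => h1J (e ▸ h), hall l⟩
      have hL : Fintype.card (C →* ℂˣ) = Nat.card C := by
        rw [← Nat.card_eq_fintype_card, natCard_linear]
        have hcom : commutator C = ⊥ := by
          rw [commutator_def, Subgroup.commutator_eq_bot_iff_le_centralizer]
          intro a _
          rw [Subgroup.mem_centralizer_iff]
          intro b _
          exact hcomm.is_comm.comm b a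
        rw [hcom, Subgroup.index_bot]
      rw [← hcardJ, hJe, Finset.card_erase_of_mem (Finset.mem_univ _), Finset.card_univ, hL]
      obtain ⟨c, hc⟩ := Nat.exists_eq_add_of_le (Nat.card_pos : 0 < Nat.card C)
      rw [hc, Nat.add_comm, Nat.succ_eq_add_one]
      simp
    push Not at hall
    obtain ⟨μ, hμ1, hμJ⟩ := hall
    obtain ⟨ψ, -, hψ⟩ : ∃ ψ ∈ (Finset.univ : Finset (Cfsg.IrrCharacter G)), k ψ * m ψ μ ≠ 0 :=
      Finset.exists_ne_zero_of_sum_ne_zero (by rw [hone μ]; exact one_ne_zero)
    have hμ0 : m χ μ = 0 := by simpa [hJ] using hμJ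
    have hJne : J.Nonempty := by
      rw [← Finset.card_pos, hcardJ]; exact hd χ
    have horb : ∀ l ∈ J, ∀ x : Subgroup.normalizer (C : Set G), conjLin l x ≠ μ := by
      intro l hl x e
      refine (Finset.mem_filter.mp hl).2 ?_
      rw [← hinv χ l x, e, hμ0]
    have hΔ : ∀ l ∈ J, Cfsg.indFun C (lval l - lval μ) = (χ : G → ℂ) - (ψ : G → ℂ) := by
      intro l hl
      have hl1 : l ≠ 1 := fun e => h1J (e ▸ hl)
      have hgen : Cfsg.IsGeneralizedCharacter G (Cfsg.indFun C (lval l - lval μ)) :=
        isGeneralized_indFun C (isGeneralized_sub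
          (isGeneralized_of_isCharacter (irr_isCharacter (isIrrCharacter_linear l)))
          (isGeneralized_of_isCharacter (irr_isCharacter (isIrrCharacter_linear μ))))
      obtain ⟨A, B', hAB, hτ⟩ := exists_irr_sub hgen
        (by simp [indFun_apply_one, lval])
        (classInner_indFun_lval_sub hcomm hcent hl1 hμ1 (horb l hl))
      have hin : ∀ φ : Cfsg.IrrCharacter G, Cfsg.classInner (Cfsg.indFun C (lval l - lval μ))
          (φ : G → ℂ) = (m φ l : ℂ) - (m φ μ : ℂ) := by
        intro φ
        rw [frobenius_reciprocity C _ _ (irr_isClassFunction φ.2), classInner_sub_left,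
          ← classInner_conj_symm (fun h : C => (φ : G → ℂ) h) (lval l),
          ← classInner_conj_symm (fun h : C => (φ : G → ℂ) h) (lval μ)]
        erw [hm φ l, hm φ μ]
        simp
      have hmψl : m ψ l = 0 := by
        by_contra h0
        have hkψ : k ψ ≠ 0 := fun h => hψ (by simp [h])
        have := huniq χ ψ l (mul_ne_zero hkχ (Finset.mem_filter.mp hl).2) (mul_ne_zero hkψ h0)
        subst this
        exact hψ (by simp [hμ0])
      have hmψμ : m ψ μ = 1 := by
        have := hle ψ μ
        rcases Nat.eq_one_of_mul_eq_one_left (show k ψ * m ψ μ = 1 by omega) with h; exact h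
      have hmχl : m χ l = 1 := by
        have := hm01 l; have := (Finset.mem_filter.mp hl).2; omega
      have e1 := hin χ
      have e2 := hin ψ
      rw [hτ, classInner_sub_left, irr_classInner A.2 χ.2, irr_classInner B'.2 χ.2] at e1
      rw [hτ, classInner_sub_left, irr_classInner A.2 ψ.2, irr_classInner B'.2 ψ.2] at e2
      rw [hmχl, hμ0] at e1
      rw [hmψl, hmψμ] at e2
      have hA : A = χ := by
        by_contra hne
        rw [if_neg (fun e => hne (Subtype.ext e))] at e1
        split_ifs at e1 <;> norm_num at e1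
      have hB : B' = ψ := by
        by_contra hne
        rw [if_neg (fun e : (B' : G → ℂ) = ψ => hne (Subtype.ext e))] at e2
        split_ifs at e2 <;> norm_num at e2
      rw [hτ, hA, hB]
    obtain ⟨l₀, hl₀⟩ := hJne
    have hsingle : ∀ l ∈ J, ∃ x : Subgroup.normalizer (C : Set G), conjLin l₀ x = l := by
      intro l hl
      by_contra hno
      push Not at hno
      have h2 := classInner_indFun_lval_sub hcomm hcent (fun e => h1J (e ▸ hl₀))
        (fun e => h1J (e ▸ hl)) hno
      have h0 : Cfsg.indFun C (lval l₀ - lval l) = 0 := by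
        have : lval l₀ - lval l = (lval l₀ - lval μ) - (lval l - lval μ) := by abel
        rw [this, indFun_sub, hΔ l₀ hl₀, hΔ l hl, sub_self]
      rw [h0, classInner_zero_left] at h2
      norm_num at h2
    have hcount : J.card * Nat.card C = Nat.card (Subgroup.normalizer (C : Set G)) := by
      rw [Nat.card_eq_fintype_card (α := Subgroup.normalizer (C : Set G)), ← Finset.card_univ,
        Finset.card_eq_sum_card_fiberwise (f := fun x => conjLin l₀ x) (t := J) (fun x _ => by
          simpa [hJ, hinv] using (Finset.mem_filter.mp hl₀).2)]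
      rw [Finset.sum_eq_card_nsmul (b := Nat.card C), smul_eq_mul]
      intro l hl
      obtain ⟨x₀, rfl⟩ := hsingle l hl
      rw [← Fintype.card_subtype, ← Nat.card_eq_fintype_card]
      have hiff : ∀ x : Subgroup.normalizer (C : Set G),
          conjLin l₀ x = conjLin l₀ x₀ ↔ ((x₀⁻¹ * x : Subgroup.normalizer (C : Set G)) : G) ∈ C := by
        intro x
        constructor
        · intro e
          refine mem_of_conjLin_eq hcent hcomm (l := l₀) (fun e' => h1J (e' ▸ hl₀)) ?_
          rw [← conjLin_mul, e, conjLin_mul, inv_mul_cancel, conjLin_one]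
        · intro hx
          calc conjLin l₀ x = conjLin l₀ (x₀ * (x₀⁻¹ * x)) := by rw [mul_inv_cancel_left]
            _ = conjLin (conjLin l₀ (x₀⁻¹ * x)) x₀ := (conjLin_mul _ _ _).symm
            _ = conjLin l₀ x₀ := by rw [conjLin_eq_iff_of_mem hcomm hx]
      exact Nat.card_congr
        { toFun := fun x => ⟨_, (hiff x.1).mp (by simpa using x.2)⟩
          invFun := fun h => ⟨x₀ * ⟨h.1, Subgroup.le_normalizer h.2⟩,
            (hiff _).mpr (by rw [inv_mul_cancel_left]; exact h.2)⟩
          left_inv := fun x => Subtype.ext (Subtype.ext (by simp))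
          right_inv := fun h => Subtype.ext (by simp) }
    have hdvd : J.card ∣ Nat.card B := Nat.dvd_of_mul_dvd_mul_right Nat.card_pos
      (by rw [hcount, hcard]; exact Subgroup.card_subgroup_dvd_card _)
    rw [← hcardJ]
    exact hcop.coprime_dvd_left hdvd
  -- one fixed point
  have hzidx : (Subgroup.centralizer ({z} : Set G)).index = Nat.card C :=
    Nat.eq_of_mul_eq_mul_left Nat.card_pos
      ((Subgroup.card_mul_index _).trans (hcard.symm.trans (by rw [hzc])))
  have hπz : π z = 1 := by
    rw [hexp, Finset.sum_apply, Finset.sum_eq_single one']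
    · simp [hk1, one']
    · intro χ _ hne
      by_cases hkχ : k χ = 0
      · simp [hkχ]
      · have h0 : (χ : G → ℂ) z = 0 := by
          by_contra h0
          obtain ⟨n, ρ, hχρ, hsc⟩ := exists_scalar_of_ne_zero χ.2 (hd1 χ)
            (hzidx ▸ hkey χ hne hkχ) h0
          have hconst : ∀ h : C, (χ : G → ℂ) (h : G) = d χ := by
            intro h
            have e1 : ρ (h : G) = ρ 1 := by rw [hvan n ρ hsc h h.2, map_one]
            have e2 := hd1 χ
            rw [hχρ] at e2 ⊢
            rw [← e2]
            show LinearMap.trace ℂ _ (ρ h) = LinearMap.trace ℂ _ (ρ 1)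
            rw [e1]
          have hm0 : m χ 1 = d χ := by
            have e := hm χ 1
            rw [classInner_def] at e
            simp only [hconst, MonoidHom.one_apply, Units.val_one, map_one, mul_one,
              Finset.sum_const, Finset.card_univ, nsmul_eq_mul, ← Nat.card_eq_fintype_card] at e
            rw [← mul_assoc, inv_mul_cancel₀ (by exact_mod_cast Nat.card_pos.ne'), one_mul] at e
            exact_mod_cast e.symm
          exact hne (huniq χ one' 1 (mul_ne_zero hkχ (hm0 ▸ (hd χ).ne')) (by simp [hk1, hm1]))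
        rw [Pi.smul_apply, h0, smul_zero]
    · simp
  have hfix : Nat.card (MulAction.fixedBy (G ⧸ B) z) = 1 := by
    have e := natCard_fixedBy_eq_indFun (G ⧸ B) ((1 : G) : G ⧸ B) z
    rw [indFun_one_congr (MulAction.stabilizer_quotient B) z] at e
    have e' : (Nat.card (MulAction.fixedBy (G ⧸ B) z) : ℂ) = 1 := e.trans hπz
    exact_mod_cast e'
  have hmem : ∀ g : G, g⁻¹ * z * g ∈ B → (g : G ⧸ B) ∈ MulAction.fixedBy (G ⧸ B) z := by
    intro g hg
    rw [MulAction.mem_fixedBy, MulAction.Quotient.smul_coe, smul_eq_mul, QuotientGroup.eq]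
    have h' := B.inv_mem hg
    simpa [mul_assoc] using h'
  have hsub := (Nat.card_eq_one_iff_unique.mp hfix).1
  have := hsub.elim ⟨_, hmem g₁ h₁⟩ ⟨_, hmem g₂ h₂⟩
  exact QuotientGroup.eq.mp (congrArg Subtype.val this)

/-- The same in a simple group. -/
theorem coset_unique [IsSimpleGroup G] (hG : ¬ IsMulCommutative G) {C B : Subgroup G}
    (hcomm : IsMulCommutative C)
    (hcent : ∀ h ∈ C, h ≠ 1 → Subgroup.centralizer ({h} : Set G) = C)
    (hcop : (Nat.card B).Coprime (Nat.card C)) (hcard : Nat.card B * Nat.card C = Nat.card G)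
    {z : G} (hz : z ≠ 1) (hzc : Nat.card (Subgroup.centralizer ({z} : Set G)) = Nat.card B)
    {g₁ g₂ : G} (h₁ : g₁⁻¹ * z * g₁ ∈ B) (h₂ : g₂⁻¹ * z * g₂ ∈ B) : g₁⁻¹ * g₂ ∈ B :=
  coset_unique_of_vanish hcomm hcent hcop hcard hzc
    (fun _ ρ hsc h _ => map_eq_one_of_scalar hG ρ hz hsc h) h₁ h₂

end CfsgLib.InvChar.ConjRank
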