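import Cfsg.Agent.Lib.InvChar.ConjRank.PrimePowerValue
import Cfsg.Agent.Lib.InvChar.ConjRank.Vanish
import Cfsg.Agent.Lib.Complement.FpfNilpotent
import Cfsg.Agent.Lib.Transfer.Frobenius
import Cfsg.Agent.Lib.OddLocal.FittingHall
import Cfsg.Agent.Lib.Solvable.KegelWielandt
import Cfsg.Agent.S4134

/-!
# An abelian centraliser of order prime to the two others

With trivial centre such a configuration forces solvability: the solvable radical meets the
abelian subgroup trivially, every other normal subgroup contains it, and the elements of the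
largest kind lie in the radical.
-/

set_option autoImplicit false

namespace CfsgLib.InvChar.ConjRank

open scoped Pointwise
open CfsgLib.Char

universe u

variable {G : Type u} [Group G] [Finite G]

local notation "n[" x "]" => Nat.card (cent x)

/-- An abelian subgroup `C` which is the centraliser of each of its non-identity elements. -/
structure Gen (G : Type u) [Group G] (a b c : ℕ) (C : Subgroup G) : Prop where
  ap : Apart G a b c
  center : Subgroup.center G = ⊥
  notSolvable : ¬ Group.IsSolvable G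
  comm : IsMulCommutative C
  cent_eq : ∀ h ∈ C, h ≠ 1 → cent h = C
  card_C : Nat.card C = c
  coprime : b.Coprime c
  mul_eq : b * c = Nat.card G
  exists_b : ∃ x : G, x ≠ 1 ∧ Nat.card (cent x) = b

variable {a b c : ℕ} {C : Subgroup G}

omit [Finite G] in
theorem Gen.aco (hg : Gen G a b c C) : a.Coprime c := hg.coprime.coprime_dvd_left hg.ap.hab

omit [Finite G] in
theorem Gen.c_ne_one (hg : Gen G a b c C) : c ≠ 1 := fun e => hg.ap.hcb (e ▸ one_dvd b)

omit [Finite G] in
theorem Gen.C_ne_bot (hg : Gen G a b c C) : C ≠ ⊥ := fun e => hg.c_ne_one (by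
  rw [← hg.card_C, e, Subgroup.card_bot])

omit [Finite G] in
theorem Gen.mem_of_commute (hg : Gen G a b c C) {h u : G} (hh : h ∈ C) (h1 : h ≠ 1)
    (hc : Commute u h) : u ∈ C :=
  hg.cent_eq h hh h1 ▸ mem_cent.mpr hc

omit [Finite G] in
theorem Gen.commute_C (hg : Gen G a b c C) {h u : G} (hh : h ∈ C) (hu : u ∈ C) : Commute h u :=
  congrArg Subtype.val (hg.comm.is_comm.comm ⟨h, hh⟩ ⟨u, hu⟩)

omit [Finite G] in
theorem Gen.coprime_orderOf (hg : Gen G a b c C) {u : G} (hu : u ≠ 1) (hn : n[u] ≠ c) :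
    (orderOf u).Coprime c := by
  refine Nat.Coprime.coprime_dvd_left (Subgroup.orderOf_dvd_natCard _ (self_mem_cent u)) ?_
  rcases hg.ap.val u hu with e | e | e
  · exact e ▸ hg.aco
  · exact e ▸ hg.coprime
  · exact absurd e hn

/-- A Sylow subgroup for a prime divisor of `c` lies in `C`. -/
theorem Gen.exists_sylow_le (hg : Gen G a b c C) {r : ℕ} [Fact r.Prime] (hrc : r ∣ c) :
    ∃ P : Sylow r G, (P : Subgroup G) ≤ C := by
  obtain ⟨S⟩ := (inferInstance : Nonempty (Sylow r C))
  have hrb : b.factorization r = 0 := by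
    refine Nat.factorization_eq_zero_of_not_dvd fun h => ?_
    exact (Fact.out : r.Prime).ne_one (Nat.eq_one_of_dvd_coprimes hg.coprime h hrc)
  have hcard : Nat.card ((S : Subgroup C).map C.subtype) = r ^ (Nat.card G).factorization r := by
    rw [Subgroup.card_map_of_injective C.subtype_injective, S.card_eq_multiplicity, hg.card_C,
      ← hg.mul_eq, Nat.factorization_mul (fun e => ?_) (fun e => ?_), Finsupp.add_apply, hrb,
      zero_add]
    · have := hg.mul_eq; rw [e, zero_mul] at this; exact Nat.card_pos.ne this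
    · have := hg.mul_eq; rw [e, mul_zero] at this; exact Nat.card_pos.ne this
  exact ⟨Sylow.ofCard _ hcard, Subgroup.map_subtype_le _⟩

theorem Gen.exists_conj_mem (hg : Gen G a b c C) {u : G} {r : ℕ} (hr : r.Prime)
    (ou : orderOf u = r) (hrc : r ∣ c) : ∃ g : G, g * u * g⁻¹ ∈ C := by
  have : Fact r.Prime := ⟨hr⟩
  obtain ⟨P, hP⟩ := hg.exists_sylow_le hrc
  obtain ⟨S, hS⟩ := (IsPGroup.of_card (p := r) (n := 1)
    (by rw [pow_one, Nat.card_zpowers, ou] : Nat.card (Subgroup.zpowers u) = r ^ 1)).exists_le_sylow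
  obtain ⟨g, hgS⟩ := MulAction.exists_smul_eq G S P
  refine ⟨g, hP ?_⟩
  rw [← hgS]
  exact Subgroup.smul_mem_pointwise_smul u (MulAut.conj g) _ (hS (Subgroup.mem_zpowers u))

theorem Gen.exists_conj_mem_of_c (hg : Gen G a b c C) {u : G} (hu : u ≠ 1) (hn : n[u] = c) :
    ∃ g : G, g * u * g⁻¹ ∈ C := by
  obtain ⟨r, k, hr, ho⟩ := exists_prime_pow_order hu
  have he := hg.ap.cent_eq_of_le (ne_one_of_orderOf_prime hr ho) hn (cent_le_pow u k)
  obtain ⟨g, hgm⟩ := hg.exists_conj_mem hr ho (ho ▸ hn ▸ (orderOf_pow_dvd k).trans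
    (Subgroup.orderOf_dvd_natCard _ (self_mem_cent u)))
  have hne : g * u ^ k * g⁻¹ ≠ 1 := fun e =>
    ne_one_of_orderOf_prime hr ho (conj_eq_one_iff.mp e)
  refine ⟨g, hg.cent_eq _ hgm hne ▸ mem_cent_conj.mpr ?_⟩
  rw [show g⁻¹ * (g * u * g⁻¹) * g = u by group, ← he]
  exact self_mem_cent u

/-- Normal subgroups meeting `C` trivially are nilpotent of order prime to `c`. -/
theorem Gen.nilpotent_of_inf_eq_bot (hg : Gen G a b c C) {N : Subgroup G} (hN : N.Normal)
    (h : N ⊓ C = ⊥) : Group.IsNilpotent N ∧ (Nat.card N).Coprime c := by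
  obtain ⟨h0, hh0, hh1⟩ := (Subgroup.bot_or_exists_ne_one C).resolve_left hg.C_ne_bot
  obtain ⟨r, k, hr, ho⟩ := exists_prime_pow_order hh1
  have hkC : h0 ^ k ∈ C := C.pow_mem hh0 k
  have hne := ne_one_of_orderOf_prime hr ho
  refine ⟨CfsgLib.Complement.isNilpotent_of_fpf N (MulAut.conjNormal (h0 ^ k)) r hr
    (by rw [← map_pow, ← ho, pow_orderOf_eq_one, map_one]) fun x hx => Subtype.ext ?_, ?_⟩
  · have e := congrArg Subtype.val hx
    rw [MulAut.conjNormal_apply] at e
    exact Subgroup.mem_bot.mp (h ▸ Subgroup.mem_inf.mpr ⟨x.2,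
      hg.mem_of_commute hkC hne (mul_inv_eq_iff_eq_mul.mp e).symm⟩)
  · refine Nat.coprime_of_dvd fun q hq hqN hqc => ?_
    have : Fact q.Prime := ⟨hq⟩
    obtain ⟨⟨u, hu⟩, ou⟩ := exists_prime_orderOf_dvd_card' (G := N) q hqN
    rw [Subgroup.orderOf_mk] at ou
    obtain ⟨g, hgm⟩ := hg.exists_conj_mem hq ou hqc
    exact ne_one_of_orderOf_prime hq ou (conj_eq_one_iff.mp
      (Subgroup.mem_bot.mp (h ▸ Subgroup.mem_inf.mpr ⟨hN.conj_mem u hu g, hgm⟩)))

omit [Finite G] in
theorem card_sup_mul_inf (A T : Subgroup G) [T.Normal] :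
    Nat.card ↥(A ⊔ T) * Nat.card ↥(T ⊓ A) = Nat.card A * Nat.card T := by
  have e : ∀ H K : Subgroup G, H ≤ K → Nat.card H * H.relIndex K = Nat.card K := fun H K h => by
    rw [← Subgroup.relIndex_bot_left, ← Subgroup.relIndex_bot_left,
      Subgroup.relIndex_mul_relIndex ⊥ H K bot_le h]
  rw [← e T (A ⊔ T) le_sup_right, ← e (T ⊓ A) A inf_le_right, Subgroup.inf_relIndex_right,
    Subgroup.relIndex_sup_right]
  ring

omit [Finite G] in
theorem card_map_eq_of_inf_ker {Q : Type*} [Group Q] (π : G →* Q) (H : Subgroup G)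
    (h : H ⊓ π.ker = ⊥) : Nat.card (H.map π) = Nat.card H := by
  have hinj : Function.Injective (π.comp H.subtype) := by
    rw [← MonoidHom.ker_eq_bot_iff, eq_bot_iff]
    intro u hu
    exact Subgroup.mem_bot.mpr (Subtype.ext (Subgroup.mem_bot.mp
      (h ▸ Subgroup.mem_inf.mpr ⟨u.2, hu⟩)))
  have e := Nat.card_congr (MonoidHom.ofInjective hinj).toEquiv
  rw [MonoidHom.range_comp, Subgroup.range_subtype] at e
  exact e.symm

omit [Finite G] in
theorem isSolvable_of_forall_commute {Q : Type*} [Group Q] (h : ∀ u v : Q, Commute u v) :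
    Group.IsSolvable Q :=
  Group.isSolvable_of_comm fun u v => (h u v).eq

/-- The radical meets `C` trivially. -/
theorem Gen.rad_inf_eq_bot (hg : Gen G a b c C) : Cfsg.solvableRadical G ⊓ C = ⊥ := by
  classical
  set R := Cfsg.solvableRadical G
  have hRn : R.Normal := solvableRadical_spec.1
  have hRs : Group.IsSolvable R := solvableRadical_spec.2
  by_contra hne
  obtain ⟨h₀, hh₀, hh₁⟩ := (Subgroup.bot_or_exists_ne_one _).resolve_left hne
  have hRne : R ≠ ⊥ := fun e => hh₁ (Subgroup.mem_bot.mp (e ▸ hh₀.1))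
  obtain ⟨A, hAn, hAne, hAR, hAmin⟩ := CfsgLib.Solvable.exists_minimal_normal_le hRn hRne
  have hAs : Group.IsSolvable A :=
    Group.isSolvable_of_isSolvable_injective (f := Subgroup.inclusion hAR)
      (Subgroup.inclusion_injective hAR)
  have hAc := CfsgLib.Solvable.isMulCommutative_of_minimal_normal hAne hAmin
  by_cases hAC : A ⊓ C = ⊥
  · -- `C` acts freely on `A`
    have : Nontrivial A := A.nontrivial_iff_ne_bot.mpr hAne
    let _ : CommGroup A := { (inferInstance : Group A) with mul_comm := hAc.is_comm.comm }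
    let φ : C →* MulAut A := MulAut.conjNormal.comp C.subtype
    have hfpf : ∀ u : C, u ≠ 1 → ∀ w : A, φ u w = w → w = 1 := by
      intro u hu w hw
      have e := congrArg Subtype.val hw
      simp only [φ, MonoidHom.coe_comp, Function.comp_apply, Subgroup.coe_subtype,
        MulAut.conjNormal_apply] at e
      exact Subtype.ext (Subgroup.mem_bot.mp (hAC ▸ Subgroup.mem_inf.mpr ⟨w.2,
        hg.mem_of_commute u.2 (fun e' => hu (Subtype.ext e'))
          (mul_inv_eq_iff_eq_mul.mp e).symm⟩))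
    have : IsMulCommutative C := hg.comm
    have : IsMulCommutative (⊤ : Subgroup C) :=
      ⟨⟨fun u v => Subtype.ext (hg.comm.is_comm.comm u v)⟩⟩
    have hcyc : IsCyclic C := by
      have := CfsgLib.Solvable.isCyclic_of_fpf φ hfpf (⊤ : Subgroup C)
      exact isCyclic_of_surjective _ (Subgroup.topEquiv (G := C)).surjective
    obtain ⟨r, k, hr, ho⟩ := exists_prime_pow_order hh₁
    have : Fact r.Prime := ⟨hr⟩
    set h₂ := h₀ ^ k
    have hh₂ := (R ⊓ C).pow_mem hh₀ k
    have hrc : r ∣ c := ho ▸ hg.card_C ▸ Subgroup.orderOf_dvd_natCard C hh₂.2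
    obtain ⟨P, hP⟩ := hg.exists_sylow_le hrc
    have hhP : h₂ ∈ (P : Subgroup G) := by
      refine mem_of_central_of_full hP hr hh₂.2 (i := 1) (by rw [ho, pow_one])
        (fun u hu => mem_cent.mpr (hg.commute_C hu hh₂.2)) ?_
      rw [P.card_eq_multiplicity, hr.factorization_pow, Finsupp.single_eq_same]
      exact factorization_le_of_dvd Nat.card_pos.ne' (Subgroup.card_subgroup_dvd_card C) r
    set S := (P : Subgroup G) ⊓ R with hS
    have hS2 : h₂ ∈ S := ⟨hhP, hh₂.1⟩
    have hSC : S ≤ C := inf_le_left.trans hP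
    obtain ⟨T, hT⟩ := CfsgLib.Transfer.exists_sylow_eq_subgroupOf P R
    have hfr := T.normalizer_sup_eq_top
    rw [hT, Subgroup.subgroupOf_map_subtype] at hfr
    have hcentS : Subgroup.centralizer (S : Set G) = C := by
      refine le_antisymm (fun u hu => hg.mem_of_commute hh₂.2 (ne_one_of_orderOf_prime hr ho)
        (Subgroup.mem_centralizer_iff.mp hu h₂ hS2).symm) fun u hu => ?_
      exact Subgroup.mem_centralizer_iff.mpr fun v hv => (hg.commute_C (hSC hv) hu).eq
    have : IsCyclic S := isCyclic_of_injective _ (Subgroup.inclusion_injective hSC)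
    have hMs : Group.IsSolvable (MulAut S) := by
      refine isSolvable_of_forall_commute fun u v => ?_
      have e := (IsCyclic.mulAutMulEquiv (G := S))
      refine e.injective ?_
      rw [map_mul, map_mul, mul_comm]
    have hNs : Group.IsSolvable (Subgroup.normalizer (S : Set G)) := by
      have hk : Group.IsSolvable S.normalizerMonoidHom.ker := by
        refine isSolvable_of_forall_commute fun u v => ?_
        have hu := u.2
        have hv := v.2
        simp only [Subgroup.normalizerMonoidHom_ker, Subgroup.mem_subgroupOf, hcentS] at hu hv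
        exact Subtype.ext (Subtype.ext (hg.commute_C hu hv).eq)
      exact Group.isSolvable_of_ker_le_range S.normalizerMonoidHom.ker.subtype S.normalizerMonoidHom
        (by rw [Subgroup.range_subtype])
    have htop := CfsgLib.Comp.isSolvable_sup (H := R) (K := Subgroup.normalizer (S : Set G))
      (CfsgLib.Comp.le_normalizer_of_normal' _ _) hRs hNs
    rw [sup_comm, hfr] at htop
    exact hg.notSolvable (Group.isSolvable_of_surjective
      (f := (Subgroup.topEquiv (G := G)).toMonoidHom) (Subgroup.topEquiv (G := G)).surjective)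
  · -- `C` is normal
    obtain ⟨h₂, hh₂, hh₃⟩ := (Subgroup.bot_or_exists_ne_one _).resolve_left hAC
    have hAleC : A ≤ C := fun u hu => hg.mem_of_commute hh₂.2 hh₃
      (congrArg Subtype.val (hAc.is_comm.comm ⟨u, hu⟩ ⟨h₂, hh₂.1⟩))
    have hCn : C.Normal := by
      have : C = Subgroup.centralizer (A : Set G) := le_antisymm
        (fun u hu => Subgroup.mem_centralizer_iff.mpr fun v hv => (hg.commute_C (hAleC hv) hu).eq)
        (fun u hu => hg.mem_of_commute hh₂.2 hh₃
          (Subgroup.mem_centralizer_iff.mp hu h₂ hh₂.1).symm)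
      rw [this]; infer_instance
    set π := QuotientGroup.mk' C
    have hker : π.ker = C := QuotientGroup.ker_mk' C
    have hC0 : 0 < c := hg.card_C ▸ Nat.card_pos
    have hcardQ : Nat.card (G ⧸ C) = b := Nat.mul_right_cancel hC0 (by
      rw [← Subgroup.index_eq_card, hg.mul_eq, ← hg.card_C, Subgroup.index_mul_card])
    have hcq : ∀ u : G, u ∉ C → Nat.card (cent (π u)) = n[u] ∧ (n[u] = a ∨ n[u] = b) := by
      intro u hu
      have hu1 : u ≠ 1 := fun e => hu (e ▸ C.one_mem)
      have hmap : cent (π u) = (cent u).map π := by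
        refine le_antisymm (fun q hq => ?_) (Subgroup.map_le_iff_le_comap.mpr fun v hv =>
          mem_cent.mpr ((mem_cent.mp hv).map π))
        obtain ⟨g, rfl⟩ := QuotientGroup.mk'_surjective C q
        have hg' : g * u * g⁻¹ * u⁻¹ ∈ C := by
          rw [← hker, MonoidHom.mem_ker, map_mul, map_mul, map_mul, map_inv, map_inv,
            (mem_cent.mp hq).eq, mul_inv_cancel_right, mul_inv_cancel]
        let δ : C → C := fun k => ⟨(k : G) * u * (k : G)⁻¹ * u⁻¹, by
          have := C.mul_mem k.2 (hCn.conj_mem _ (C.inv_mem k.2) u)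
          simpa [mul_assoc] using this⟩
        have hinj : Function.Injective δ := by
          intro k k' e
          by_contra hkk
          have e' : (k : G) * u * (k : G)⁻¹ = (k' : G) * u * (k' : G)⁻¹ :=
            mul_right_cancel (congrArg Subtype.val e)
          refine hu (hg.mem_of_commute (C.mul_mem (C.inv_mem k'.2) k.2) (fun e2 => ?_) ?_)
          · exact hkk (Subtype.ext (inv_mul_eq_one.mp e2).symm)
          · show u * ((k' : G)⁻¹ * k) = (k' : G)⁻¹ * k * u
            calc u * ((k' : G)⁻¹ * k) = (k' : G)⁻¹ * ((k' : G) * u * (k' : G)⁻¹) * k := by group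
              _ = (k' : G)⁻¹ * ((k : G) * u * (k : G)⁻¹) * k := by rw [e']
              _ = (k' : G)⁻¹ * k * u := by group
        obtain ⟨k, hk⟩ := (Finite.injective_iff_surjective.mp hinj) ⟨_, hg'⟩
        have hk' : (k : G) * u * (k : G)⁻¹ = g * u * g⁻¹ :=
          mul_right_cancel (congrArg Subtype.val hk)
        refine ⟨(k : G)⁻¹ * g, mem_cent.mpr ?_, ?_⟩
        · show (k : G)⁻¹ * g * u = u * ((k : G)⁻¹ * g)
          calc (k : G)⁻¹ * g * u = (k : G)⁻¹ * (g * u * g⁻¹) * g := by group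
            _ = (k : G)⁻¹ * ((k : G) * u * (k : G)⁻¹) * g := by rw [hk']
            _ = u * ((k : G)⁻¹ * g) := by group
        · rw [map_mul, map_inv, MonoidHom.mem_ker.mp (hker.symm ▸ k.2), inv_one, one_mul]
      have hinf : cent u ⊓ π.ker = ⊥ := by
        rw [hker, eq_bot_iff]
        intro k hk
        rw [Subgroup.mem_bot]
        by_contra hk1
        exact hu (hg.mem_of_commute hk.2 hk1 (mem_cent.mp hk.1).symm)
      refine ⟨by rw [hmap, card_map_eq_of_inf_ker π _ hinf], ?_⟩
      rcases hg.ap.val u hu1 with e | e | e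
      · exact Or.inl e
      · exact Or.inr e
      · obtain ⟨g, hgm⟩ := hg.exists_conj_mem_of_c hu1 e
        refine absurd ?_ hu
        simpa [mul_assoc] using hCn.conj_mem _ hgm g⁻¹
    refine hg.notSolvable (isSolvable_of_quotient C
      (isSolvable_of_forall_commute fun u v => hg.comm.is_comm.comm u v) ?_)
    by_cases hex : ∃ q : G ⧸ C, (cent q).index ≠ 1
    · have ha0 : 0 < a := Nat.pos_of_ne_zero fun e => by
        have := hg.ap.hab
        rw [e, zero_dvd_iff] at this
        have h' := hg.mul_eq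
        rw [this, zero_mul] at h'
        exact Nat.card_pos.ne h'
      set N := b / a
      have hN : a * N = b := Nat.mul_div_cancel' hg.ap.hab
      have hval : ∀ q : G ⧸ C, (cent q).index = 1 ∨ (cent q).index = N := by
        intro q
        obtain ⟨u, rfl⟩ := QuotientGroup.mk'_surjective C q
        have hmul := Subgroup.card_mul_index (cent (π u))
        rw [hcardQ] at hmul
        by_cases hu : u ∈ C
        · left
          rw [Subgroup.index_eq_one, eq_top_iff]
          intro v _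
          rw [show QuotientGroup.mk' C u = 1 from (QuotientGroup.eq_one_iff u).mpr hu]
          exact mem_cent.mpr (Commute.one_right v)
        · obtain ⟨e, h' | h'⟩ := hcq u hu <;> rw [e, h'] at hmul
          · exact Or.inr (Nat.mul_left_cancel ha0 (hmul.trans hN.symm))
          · exact Or.inl (Nat.mul_left_cancel (hcardQ ▸ Nat.card_pos)
              (hmul.trans (Nat.mul_one b).symm))
      obtain ⟨q, hq⟩ := hex
      have hqN := (hval q).resolve_left hq
      have hN1 : 1 < N := by
        have := Subgroup.index_ne_zero_of_finite (H := cent q)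
        omega
      obtain ⟨s₀, hs₀, -, -, hP⟩ := Cfsg.Agent.S4134.result N hN1 hval ⟨q, hqN⟩
      obtain ⟨P⟩ := (inferInstance : Nonempty (Sylow s₀ (G ⧸ C)))
      obtain ⟨hPn, ⟨M, hMn, hMc, hMab, -⟩, -⟩ := hP P
      have := P.isPGroup'.isNilpotent
      refine isSolvable_of_quotient M
        (isSolvable_of_forall_commute fun u v => hMab.is_comm.comm u v) ?_
      exact Group.isSolvable_of_surjective (G := (P : Subgroup (G ⧸ C)))
        (f := hMc.symm.QuotientMulEquiv.symm.toMonoidHom) hMc.symm.QuotientMulEquiv.symm.surjective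
    · push Not at hex
      refine isSolvable_of_forall_commute fun u v => (mem_cent.mp ?_)
      rw [Subgroup.index_eq_one.mp (hex v)]
      exact Subgroup.mem_top u

/-- A normal subgroup meeting `C` contains it. -/
theorem Gen.C_le_of_inf_ne_bot (hg : Gen G a b c C) {N : Subgroup G} (hN : N.Normal)
    (hne : N ⊓ C ≠ ⊥) : C ≤ N := by
  classical
  obtain ⟨L, ⟨⟨hLn, hLN, hLC⟩, hLmin⟩⟩ :=
    (Set.toFinite {K : Subgroup G | K.Normal ∧ K ≤ N ∧ K ⊓ C ≠ ⊥}).exists_minimal
      ⟨N, hN, le_rfl, hne⟩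
  have hperf : commutator L = ⊤ := by
    have hmap : (commutator L).map L.subtype = ⁅L, L⁆ := by
      rw [commutator_def, Subgroup.map_commutator, ← MonoidHom.range_eq_map, Subgroup.range_subtype]
    have hle : ⁅L, L⁆ ≤ L := hmap ▸ Subgroup.map_subtype_le _
    by_cases hD : ⁅L, L⁆ ⊓ C = ⊥
    · exfalso
      have hnil := (hg.nilpotent_of_inf_eq_bot inferInstance hD).1
      have hcs : Group.IsSolvable (commutator L) := by
        have e := ((commutator L).equivMapOfInjective L.subtype L.subtype_injective).trans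
          (MulEquiv.subgroupCongr hmap)
        have : Group.IsSolvable ↥⁅L, L⁆ := inferInstance
        exact Group.isSolvable_of_surjective (f := e.symm.toMonoidHom) e.symm.surjective
      have hLs : Group.IsSolvable L := Group.isSolvable_of_ker_le_range (commutator L).subtype
        (Abelianization.of (G := L)) (by rw [Abelianization.ker_of, Subgroup.range_subtype])
      refine hLC (le_bot_iff.mp ?_)
      rw [← hg.rad_inf_eq_bot]
      exact inf_le_inf (le_solvableRadical hLn hLs) le_rfl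
    · have heq : ⁅L, L⁆ = L := le_antisymm hle (hLmin ⟨inferInstance, hle.trans hLN, hD⟩ hle)
      refine Subgroup.map_injective L.subtype_injective ?_
      rw [hmap, heq, ← MonoidHom.range_eq_map, Subgroup.range_subtype]
  obtain ⟨h₀, hh₀, hh₁⟩ := (Subgroup.bot_or_exists_ne_one _).resolve_left hLC
  obtain ⟨r, k, hr, ho⟩ := exists_prime_pow_order hh₁
  have : Fact r.Prime := ⟨hr⟩
  set h := h₀ ^ k
  have hh := (L ⊓ C).pow_mem hh₀ k
  have hne1 := ne_one_of_orderOf_prime hr ho
  obtain ⟨P, hP⟩ := hg.exists_sylow_le (ho ▸ hg.card_C ▸ Subgroup.orderOf_dvd_natCard C hh.2)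
  have hhP : h ∈ (P : Subgroup G) := by
    refine mem_of_central_of_full hP hr hh.2 (i := 1) (by rw [ho, pow_one])
      (fun u hu => mem_cent.mpr (hg.commute_C hu hh.2)) ?_
    rw [P.card_eq_multiplicity, hr.factorization_pow, Finsupp.single_eq_same]
    exact factorization_le_of_dvd Nat.card_pos.ne' (Subgroup.card_subgroup_dvd_card C) r
  obtain ⟨S, hS⟩ := CfsgLib.Transfer.exists_sylow_eq_subgroupOf P L
  have hmemS : ∀ u : L, u ∈ (S : Subgroup L) ↔ (u : G) ∈ (P : Subgroup G) := fun u => by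
    rw [hS, Subgroup.mem_subgroupOf]
  obtain ⟨e, he, he'⟩ : ∃ e : L, e ∈ Subgroup.normalizer ((S : Subgroup L) : Set L) ∧
      e ∉ Subgroup.centralizer ((S : Subgroup L) : Set L) := by
    by_contra hno
    push Not at hno
    let f := MonoidHom.transferSylow S hno
    have hab : ∀ u v : (S : Subgroup L), Commute u v := fun u v =>
      Subtype.ext (Subtype.ext (hg.commute_C (hP ((hmemS u).mp u.2)) (hP ((hmemS v).mp v.2))).eq)
    have hker : f.ker = ⊤ := top_le_iff.mp (hperf ▸ (by
      rw [commutator_def, Subgroup.commutator_le]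
      intro u _ v _
      rw [MonoidHom.mem_ker, map_commutatorElement, commutatorElement_eq_one_iff_mul_comm]
      exact (hab _ _).eq))
    have hcompl := MonoidHom.ker_transferSylow_isComplement' S hno
    rw [show (MonoidHom.transferSylow S hno).ker = ⊤ from hker] at hcompl
    have hbot := Subgroup.isComplement'_top_left.mp hcompl
    have hm : (⟨h, hh.1⟩ : L) ∈ (S : Subgroup L) := (hmemS _).mpr hhP
    rw [hbot, Subgroup.mem_bot] at hm
    exact hne1 (congrArg Subtype.val hm)
  have heC : (e : G) ∉ C := fun hm => he' (Subgroup.mem_centralizer_iff.mpr fun v hv =>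
    Subtype.ext (hg.commute_C (hP ((hmemS v).mp hv)) hm).eq)
  have hconj : ∀ k ∈ C, (e : G) * k * (e : G)⁻¹ ∈ C := by
    intro k hk
    have hm := (Subgroup.mem_normalizer_iff.mp he ⟨h, hh.1⟩).mp ((hmemS _).mpr hhP)
    have hm' : (e : G) * h * (e : G)⁻¹ ∈ (P : Subgroup G) := by simpa using (hmemS _).mp hm
    refine hg.mem_of_commute (hP hm') (fun e' => hne1 (conj_eq_one_iff.mp e')) ?_
    have := (hg.commute_C hk hh.2).map (MulAut.conj (e : G)).toMonoidHom
    simpa [MulAut.conj_apply] using this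
  let δ : C → C := fun k => ⟨(e : G) * k * (e : G)⁻¹ * (k : G)⁻¹,
    C.mul_mem (hconj k k.2) (C.inv_mem k.2)⟩
  have hinj : Function.Injective δ := by
    intro k k' hkk
    by_contra hne'
    have hkk' : (e : G) * k * (e : G)⁻¹ * (k : G)⁻¹ = (e : G) * k' * (e : G)⁻¹ * (k' : G)⁻¹ :=
      congrArg Subtype.val hkk
    set m := (k' : G)⁻¹ * k with hm
    have hmC : m ∈ C := C.mul_mem (C.inv_mem k'.2) k.2
    have hem : (e : G) * m * (e : G)⁻¹ = m := by
      calc (e : G) * m * (e : G)⁻¹ = ((e : G) * k' * (e : G)⁻¹)⁻¹ * ((e : G) * k * (e : G)⁻¹) := by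
            rw [hm]; group
        _ = ((e : G) * k' * (e : G)⁻¹)⁻¹ *
            (((e : G) * k * (e : G)⁻¹ * (k : G)⁻¹) * k) := by group
        _ = ((e : G) * k' * (e : G)⁻¹)⁻¹ *
            (((e : G) * k' * (e : G)⁻¹ * (k' : G)⁻¹) * k) := by rw [hkk']
        _ = m := by rw [hm]; group
    exact heC (hg.mem_of_commute hmC (fun e2 => hne' (Subtype.ext (inv_mul_eq_one.mp e2).symm))
      (mul_inv_eq_iff_eq_mul.mp hem))
  intro v hv
  obtain ⟨k, hk⟩ := (Finite.injective_iff_surjective.mp hinj) ⟨v, hv⟩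
  refine hLN ?_
  rw [show v = (e : G) * ((k : G) * (e : G)⁻¹ * (k : G)⁻¹) by
    have h2 : (e : G) * k * (e : G)⁻¹ * (k : G)⁻¹ = v := congrArg Subtype.val hk
    rw [← h2]; group]
  exact L.mul_mem e.2 (hLn.conj_mem _ (L.inv_mem e.2) k)

theorem Gen.le_rad_or (hg : Gen G a b c C) {N : Subgroup G} (hN : N.Normal) :
    N ≤ Cfsg.solvableRadical G ∨ C ≤ N := by
  by_cases h : N ⊓ C = ⊥
  · have := (hg.nilpotent_of_inf_eq_bot hN h).1
    exact Or.inl (le_solvableRadical hN inferInstance)
  · exact Or.inr (hg.C_le_of_inf_ne_bot hN h)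

omit [Finite G] in
theorem Gen.not_le_rad (hg : Gen G a b c C) (hbot : Cfsg.solvableRadical G ⊓ C = ⊥) :
    ¬ C ≤ Cfsg.solvableRadical G := fun h => hg.C_ne_bot (by rwa [inf_eq_right.mpr h] at hbot)

theorem Gen.vanish (hg : Gen G a b c C) {z : G} (hzb : n[z] = b)
    (hzR : z ∉ Cfsg.solvableRadical G) (n : ℕ) (ρ : Representation ℂ G (Fin n → ℂ))
    (hsc : z ∈ scalarSubgroup ρ) : ∀ h ∈ C, ρ h = 1 := by
  classical
  intro h hh
  by_contra hρh
  have hh1 : h ≠ 1 := fun e => hρh (e ▸ map_one ρ)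
  set M : Subgroup G := MonoidHom.ker ρ with hM
  have hMn : M.Normal := MonoidHom.normal_ker ρ
  have hMC : M ⊓ C = ⊥ := by
    by_contra hne
    exact hρh (MonoidHom.mem_ker.mp (hg.C_le_of_inf_ne_bot hMn hne hh))
  have hMR : M ≤ Cfsg.solvableRadical G := by
    have := (hg.nilpotent_of_inf_eq_bot hMn hMC).1
    exact le_solvableRadical hMn inferInstance
  obtain ⟨ω, hω⟩ := hsc
  have hcomm : ρ (h * z) = ρ (z * h) := by ext v; simp [map_mul, hω]
  have hd : h * z * h⁻¹ * z⁻¹ ∈ M := by
    rw [hM, MonoidHom.mem_ker, map_mul, map_mul, hcomm, ← map_mul, ← map_mul,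
      show z * h * h⁻¹ * z⁻¹ = 1 by group, map_one]
  let δ : M → M := fun m => ⟨h * m * h⁻¹ * (m : G)⁻¹,
    M.mul_mem (hMn.conj_mem _ m.2 h) (M.inv_mem m.2)⟩
  have hinj : Function.Injective δ := by
    intro m m' e
    by_contra hne
    have e' : h * m * h⁻¹ * (m : G)⁻¹ = h * m' * h⁻¹ * (m' : G)⁻¹ := congrArg Subtype.val e
    have h2 : (m : G) * h⁻¹ * (m : G)⁻¹ = m' * h⁻¹ * (m' : G)⁻¹ :=
      mul_left_cancel (a := h) (by simpa [mul_assoc] using e')
    have hm : (m' : G)⁻¹ * m ∈ C := by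
      refine hg.mem_of_commute (C.inv_mem hh) (fun e2 => hh1 (inv_eq_one.mp e2)) ?_
      show (m' : G)⁻¹ * m * h⁻¹ = h⁻¹ * ((m' : G)⁻¹ * m)
      calc (m' : G)⁻¹ * m * h⁻¹ = (m' : G)⁻¹ * (m * h⁻¹ * (m : G)⁻¹) * m := by group
        _ = (m' : G)⁻¹ * (m' * h⁻¹ * (m' : G)⁻¹) * m := by rw [h2]
        _ = h⁻¹ * ((m' : G)⁻¹ * m) := by group
    exact hne (Subtype.ext (inv_mul_eq_one.mp (Subgroup.mem_bot.mp
      (hMC ▸ Subgroup.mem_inf.mpr ⟨M.mul_mem (M.inv_mem m'.2) m.2, hm⟩))).symm)
  obtain ⟨m, hm⟩ := (Finite.injective_iff_surjective.mp hinj) ⟨_, hd⟩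
  have e' : h * m * h⁻¹ * (m : G)⁻¹ = h * z * h⁻¹ * z⁻¹ := congrArg Subtype.val hm
  have h2 : (m : G) * h⁻¹ * (m : G)⁻¹ = z * h⁻¹ * z⁻¹ :=
    mul_left_cancel (a := h) (by simpa [mul_assoc] using e')
  have hk : (m : G)⁻¹ * z ∈ C := by
    refine hg.mem_of_commute (C.inv_mem hh) (fun e2 => hh1 (inv_eq_one.mp e2)) ?_
    show (m : G)⁻¹ * z * h⁻¹ = h⁻¹ * ((m : G)⁻¹ * z)
    calc (m : G)⁻¹ * z * h⁻¹ = (m : G)⁻¹ * (z * h⁻¹ * z⁻¹) * z := by group
      _ = (m : G)⁻¹ * (m * h⁻¹ * (m : G)⁻¹) * z := by rw [h2]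
      _ = h⁻¹ * ((m : G)⁻¹ * z) := by group
  have hzc : z ^ c ∈ M := by
    have h3 : ((m : G)⁻¹ * z) ^ c = 1 := by
      rw [← orderOf_dvd_iff_pow_eq_one, ← hg.card_C]
      exact Subgroup.orderOf_dvd_natCard C hk
    rw [hM, MonoidHom.mem_ker, map_pow]
    have h4 := congrArg ρ h3
    rwa [map_pow, map_mul, MonoidHom.mem_ker.mp (M.inv_mem m.2), one_mul, map_one] at h4
  refine hzR (hMR (mem_of_pow_coprime M (i := orderOf z) (j := c)
    (hg.coprime.coprime_dvd_left (hzb ▸ Subgroup.orderOf_dvd_natCard _ (self_mem_cent z)))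
    (by rw [pow_orderOf_eq_one]; exact M.one_mem) hzc))

/-- The radical centralises the elements of the largest kind. -/
theorem Gen.rad_le_cent (hg : Gen G a b c C) {x : G} (hxb : n[x] = b) :
    Cfsg.solvableRadical G ≤ cent x := by
  set R := Cfsg.solvableRadical G
  have hRn : R.Normal := solvableRadical_spec.1
  have hco := (hg.nilpotent_of_inf_eq_bot hRn hg.rad_inf_eq_bot).2
  have h1 : Nat.card ↥(R ⊔ cent x) * Nat.card ↥(R ⊓ cent x) = Nat.card R * b := by
    rw [← hxb, sup_comm, mul_comm (Nat.card R)]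
    exact card_sup_mul_inf (cent x) R
  have h2 : Nat.card R ∣ Nat.card ↥(R ⊓ cent x) * c := by
    obtain ⟨t, ht⟩ := Subgroup.card_subgroup_dvd_card (R ⊔ cent x)
    have hb0 : 0 < b := hxb ▸ Nat.card_pos
    refine ⟨t, Nat.mul_left_cancel hb0 ?_⟩
    calc b * (Nat.card ↥(R ⊓ cent x) * c) = Nat.card G * Nat.card ↥(R ⊓ cent x) := by
          rw [← hg.mul_eq]; ring
      _ = b * (Nat.card R * t) := by
          rw [ht, mul_right_comm, h1]; ring
  exact inf_eq_left.mp (eq_of_le_of_dvd inf_le_left (hco.dvd_of_dvd_mul_right h2))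

end CfsgLib.InvChar.ConjRank
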