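import Cfsg.Agent.Lib.Solvable.Products
import Cfsg.Agent.Lib.Char.Burnside

/-!
# Centraliser orders: elementary facts
-/

set_option autoImplicit false

namespace CfsgLib.InvChar.ConjRank

open scoped Pointwise

universe u

variable {G : Type u} [Group G]

/-- The centraliser of an element. -/
abbrev cent (x : G) : Subgroup G := Subgroup.centralizer ({x} : Set G)

theorem mem_cent {x u : G} : u ∈ cent x ↔ Commute u x := Subgroup.mem_centralizer_singleton_iff

theorem self_mem_cent (x : G) : x ∈ cent x := mem_cent.mpr (Commute.refl x)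

theorem mem_cent_comm {x u : G} : u ∈ cent x ↔ x ∈ cent u :=
  ⟨fun h => mem_cent.mpr (mem_cent.mp h).symm, fun h => mem_cent.mpr (mem_cent.mp h).symm⟩

theorem cent_le_pow (x : G) (k : ℕ) : cent x ≤ cent (x ^ k) :=
  fun _ h => mem_cent.mpr ((mem_cent.mp h).pow_right k)

theorem mem_cent_conj {g x u : G} : u ∈ cent (g * x * g⁻¹) ↔ g⁻¹ * u * g ∈ cent x := by
  rw [mem_cent, mem_cent, Commute, SemiconjBy, Commute, SemiconjBy]
  constructor
  · intro h
    calc g⁻¹ * u * g * x = g⁻¹ * (u * (g * x * g⁻¹)) * g := by group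
      _ = g⁻¹ * ((g * x * g⁻¹) * u) * g := by rw [h]
      _ = x * (g⁻¹ * u * g) := by group
  · intro h
    calc u * (g * x * g⁻¹) = g * ((g⁻¹ * u * g) * x) * g⁻¹ := by group
      _ = g * (x * (g⁻¹ * u * g)) * g⁻¹ := by rw [h]
      _ = g * x * g⁻¹ * u := by group

theorem card_cent_conj (g x : G) : Nat.card (cent (g * x * g⁻¹)) = Nat.card (cent x) := by
  refine Nat.card_congr ((MulAut.conj g⁻¹).toEquiv.subtypeEquiv fun u => ?_)
  show u ∈ cent (g * x * g⁻¹) ↔ g⁻¹ * u * g⁻¹⁻¹ ∈ cent x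
  rw [inv_inv, mem_cent_conj]

theorem mem_of_pow_coprime (K : Subgroup G) {u : G} {i j : ℕ} (hij : i.Coprime j)
    (hi : u ^ i ∈ K) (hj : u ^ j ∈ K) : u ∈ K := by
  have h : u = (u ^ i) ^ Nat.gcdA i j * (u ^ j) ^ Nat.gcdB i j := by
    rw [← zpow_natCast, ← zpow_natCast, ← zpow_mul, ← zpow_mul, ← zpow_add, ← Nat.gcd_eq_gcd_ab,
      hij.gcd_eq_one, Nat.cast_one, zpow_one]
  rw [h]
  exact K.mul_mem (K.zpow_mem hi _) (K.zpow_mem hj _)

theorem cent_mul_le_of_coprime {z u : G} (hc : Commute z u)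
    (hco : (orderOf z).Coprime (orderOf u)) : cent (z * u) ≤ cent z ⊓ cent u := by
  intro w hw
  have h0 : z * u ∈ cent w := mem_cent_comm.mp hw
  have h1 : z ^ orderOf u ∈ cent w := by
    have h2 := (cent w).pow_mem h0 (orderOf u)
    rwa [hc.mul_pow, pow_orderOf_eq_one, mul_one] at h2
  have hz : z ∈ cent w :=
    mem_of_pow_coprime _ hco.symm h1 (by rw [pow_orderOf_eq_one]; exact one_mem _)
  have hu : u ∈ cent w := by
    have h2 := (cent w).mul_mem ((cent w).inv_mem hz) h0
    rwa [inv_mul_cancel_left] at h2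
  exact ⟨mem_cent_comm.mp hz, mem_cent_comm.mp hu⟩

/-- No centraliser order of a non-identity element properly divides the one of `z`. -/
def MinC (z : G) : Prop :=
  ∀ w : G, w ≠ 1 → Nat.card (cent w) ∣ Nat.card (cent z) → Nat.card (cent w) = Nat.card (cent z)

variable [Finite G]

theorem eq_of_le_of_dvd {H K : Subgroup G} (h : H ≤ K) (hd : Nat.card K ∣ Nat.card H) : H = K :=
  Subgroup.eq_of_le_of_card_ge h (Nat.le_of_dvd Nat.card_pos hd)

theorem MinC.eq_of_le {z w : G} (hz : MinC z) (hw : w ≠ 1) (h : cent w ≤ cent z) :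
    cent w = cent z :=
  eq_of_le_of_dvd h (hz w hw (Subgroup.card_dvd_of_le h)).symm.dvd

theorem central_of_min {z u : G} (hz1 : z ≠ 1) (hz : MinC z) (hu : u ∈ cent z)
    (hco : (orderOf z).Coprime (orderOf u)) : cent z ≤ cent u := by
  have hne : z * u ≠ 1 := by
    intro e
    have e' : orderOf u = orderOf z := by rw [← inv_eq_of_mul_eq_one_right e, orderOf_inv]
    rw [e', Nat.coprime_self] at hco
    exact hz1 (orderOf_eq_one_iff.mp hco)
  have h := cent_mul_le_of_coprime (mem_cent.mp hu).symm hco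
  exact (hz.eq_of_le hne (h.trans inf_le_left)).symm.le.trans (h.trans inf_le_right)

theorem exists_pow_coprime (u : G) {p : ℕ} (hp : p.Prime) :
    ∃ k, p.Coprime (orderOf (u ^ (p ^ k))) := by
  refine ⟨(orderOf u).factorization p, ?_⟩
  rw [orderOf_pow, Nat.gcd_eq_right (Nat.ordProj_dvd _ _)]
  exact Nat.coprime_ordCompl hp (orderOf_pos u).ne'

/-- A minimal element of prime order has nilpotent centraliser. -/
theorem isNilpotent_of_min {z : G} {p : ℕ} (hp : p.Prime) (ho : orderOf z = p) (hz : MinC z) :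
    Group.IsNilpotent (cent z) := by
  have : Fact p.Prime := ⟨hp⟩
  have hz1 : z ≠ 1 := fun e => hp.ne_one (by rw [← ho, e, orderOf_one])
  have hq : IsPGroup p (cent z ⧸ Subgroup.center (cent z)) := by
    intro q
    obtain ⟨⟨u, hu⟩, rfl⟩ := QuotientGroup.mk_surjective q
    obtain ⟨k, hk⟩ := exists_pow_coprime u hp
    refine ⟨k, ?_⟩
    rw [← QuotientGroup.mk_pow, QuotientGroup.eq_one_iff, Subgroup.mem_center_iff]
    rintro ⟨v, hv⟩
    refine Subtype.ext ?_
    have := central_of_min hz1 hz ((cent z).pow_mem hu (p ^ k)) (by rwa [ho]) hv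
    exact (mem_cent.mp this).eq
  have := hq.isNilpotent
  exact Subgroup.isNilpotent_of_ker_le_center (QuotientGroup.mk' (Subgroup.center (cent z)))
    (by rw [QuotientGroup.ker_mk'])

/-- Two minimal elements of different prime orders with the same centraliser make it abelian. -/
theorem commute_of_two_min {y z : G} {p r : ℕ} (hp : p.Prime) (hr : r.Prime) (hpr : p ≠ r)
    (hy : orderOf y = p) (hz : orderOf z = r) (hym : MinC y) (hzm : MinC z)
    (he : cent y = cent z) {a b : G} (ha : a ∈ cent y) (hb : b ∈ cent y) : Commute a b := by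
  have hy1 : y ≠ 1 := fun e => hp.ne_one (by rw [← hy, e, orderOf_one])
  have hz1 : z ≠ 1 := fun e => hr.ne_one (by rw [← hz, e, orderOf_one])
  obtain ⟨k, hk⟩ := exists_pow_coprime b hp
  obtain ⟨j, hj⟩ := exists_pow_coprime b hr
  have hkey : b ∈ cent a := by
    refine mem_of_pow_coprime _ (i := p ^ k) (j := r ^ j)
      (((Nat.coprime_primes hp hr).mpr hpr).pow k j) ?_ ?_
    · exact mem_cent_comm.mp (central_of_min hy1 hym ((cent y).pow_mem hb _) (by rwa [hy]) ha)
    · exact mem_cent_comm.mp (central_of_min hz1 hzm ((cent z).pow_mem (he ▸ hb) _)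
        (by rwa [hz]) (he ▸ ha))
  exact (mem_cent.mp hkey).symm

theorem exists_prime_pow_order {x : G} (hx : x ≠ 1) :
    ∃ p k : ℕ, p.Prime ∧ orderOf (x ^ k) = p := by
  have hp := Nat.minFac_prime (fun e => hx (orderOf_eq_one_iff.mp e) : orderOf x ≠ 1)
  exact ⟨_, orderOf x / (orderOf x).minFac, hp,
    orderOf_pow_orderOf_div (orderOf_pos x).ne' (Nat.minFac_dvd _)⟩

theorem one_lt_card_cent {x : G} (hx : x ≠ 1) : 1 < Nat.card (cent x) :=
  (Subgroup.one_lt_card_iff_ne_bot _).mpr fun h => hx (Subgroup.mem_bot.mp (h ▸ self_mem_cent x))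

/-- A central element of a Sylow subgroup, of prime order. -/
theorem exists_orderOf_full {p : ℕ} (hp : p.Prime) (hdvd : p ∣ Nat.card G) :
    ∃ z : G, orderOf z = p ∧ p ^ (Nat.card G).factorization p ∣ Nat.card (cent z) := by
  have : Fact p.Prime := ⟨hp⟩
  obtain ⟨P⟩ := (inferInstance : Nonempty (Sylow p G))
  have : Nontrivial P := by
    rw [← Finite.one_lt_card_iff_nontrivial]
    exact lt_of_lt_of_le hp.one_lt (Nat.le_of_dvd Nat.card_pos (P.dvd_card_of_dvd_card hdvd))
  have hc : Nontrivial (Subgroup.center P) := P.isPGroup'.center_nontrivial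
  obtain ⟨k, hk⟩ := IsPGroup.iff_card.mp (P.isPGroup'.to_subgroup (Subgroup.center P))
  have hk0 : k ≠ 0 := by
    intro e
    rw [e, pow_zero] at hk
    have := Finite.one_lt_card_iff_nontrivial.mpr hc
    omega
  obtain ⟨w, hw⟩ := exists_prime_orderOf_dvd_card' (G := Subgroup.center P) p
    (hk ▸ dvd_pow_self p hk0)
  refine ⟨((w : P) : G), by rw [Subgroup.orderOf_coe, Subgroup.orderOf_coe, hw], ?_⟩
  rw [← P.card_eq_multiplicity]
  refine Subgroup.card_dvd_of_le fun v hv => mem_cent.mpr ?_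
  exact (congrArg Subtype.val (Subgroup.mem_center_iff.mp w.2 ⟨v, hv⟩) : _)

theorem card_cent_ne_card [IsSimpleGroup G] (hG : ¬ IsMulCommutative G) {x : G} (hx : x ≠ 1) :
    Nat.card (cent x) ≠ Nat.card G := by
  intro e
  have hmem : x ∈ Subgroup.center G := Subgroup.mem_center_iff.mpr fun g =>
    (mem_cent.mp (by rw [Subgroup.eq_top_of_card_eq _ e]; trivial : g ∈ cent x)).eq
  rcases Subgroup.Normal.eq_bot_or_eq_top (inferInstance : (Subgroup.center G).Normal) with h | h
  · exact hx (Subgroup.mem_bot.mp (h ▸ hmem))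
  · exact hG ⟨⟨fun a b => (Subgroup.mem_center_iff.mp (by rw [h]; trivial : b ∈ Subgroup.center G)) a⟩⟩

theorem index_ne_prime_pow [IsSimpleGroup G] (hG : ¬ IsMulCommutative G) {x : G} (hx : x ≠ 1)
    {p k : ℕ} (hp : p.Prime) : (cent x).index ≠ p ^ k := by
  intro e
  have := CfsgLib.Char.burnside_class_prime_power p k hp x hx e
  have : Fact (Nat.card G).Prime := ⟨this⟩
  have : IsCyclic G := isCyclic_of_prime_card rfl
  exact hG IsCyclic.isMulCommutative

/-- Two subgroups whose orders have least common multiple `|G|`. -/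
theorem card_inf_eq_gcd {H K : Subgroup G} (h : (Nat.card H).lcm (Nat.card K) = Nat.card G) :
    Nat.card (H ⊓ K : Subgroup G) = (Nat.card H).gcd (Nat.card K) ∧
      ∀ g : G, ∃ a ∈ H, ∃ b ∈ K, g = a * b := by
  classical
  have he := CfsgLib.Solvable.card_mul_set_mul_card_inf H K
  rw [← Nat.gcd_mul_lcm (Nat.card H) (Nat.card K), h] at he
  have hd : Nat.card (H ⊓ K : Subgroup G) ∣ (Nat.card H).gcd (Nat.card K) :=
    Nat.dvd_gcd (Subgroup.card_dvd_of_le inf_le_left) (Subgroup.card_dvd_of_le inf_le_right)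
  have hle : Nat.card ((H : Set G) * (K : Set G) : Set G) ≤ Nat.card G := Finite.card_subtype_le _
  have hg0 : 0 < (Nat.card H).gcd (Nat.card K) := Nat.gcd_pos_of_pos_left _ Nat.card_pos
  have heq : Nat.card (H ⊓ K : Subgroup G) = (Nat.card H).gcd (Nat.card K) := by
    refine le_antisymm (Nat.le_of_dvd hg0 hd) ?_
    exact Nat.le_of_mul_le_mul_right (he ▸ (Nat.mul_le_mul_right _ hle).trans
      (le_of_eq (mul_comm _ _))) Nat.card_pos
  refine ⟨heq, fun g => ?_⟩
  rw [heq, mul_comm] at he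
  have hcard := Nat.eq_of_mul_eq_mul_left hg0 he
  have huniv : ((H : Set G) * (K : Set G)) = Set.univ :=
    Set.eq_univ_of_forall fun w => by
      by_contra hw
      have := Set.ncard_lt_ncard (Set.ssubset_univ_iff.mpr
        (fun e => hw (e ▸ Set.mem_univ w) : ((H : Set G) * (K : Set G)) ≠ Set.univ))
      rw [Set.ncard_univ, ← Nat.card_coe_set_eq, hcard] at this
      exact lt_irrefl _ this
  obtain ⟨a, ha, b, hb, rfl⟩ := Set.mem_mul.mp (huniv.ge (Set.mem_univ g))
  exact ⟨a, ha, b, hb, rfl⟩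

end CfsgLib.InvChar.ConjRank
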