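import Cfsg.Agent.Lib.InvChar.ConjRank.Basic
import Cfsg.Agent.Lib.InvChar.ConjRank.Vanish
import Cfsg.Agent.Lib.Solvable.FrobeniusKernel
import Cfsg.Agent.Lib.Char.CN
import Mathlib.Data.Nat.Factorization.Basic

/-!
# Three centraliser orders in a simple group: no one divides another
-/

set_option autoImplicit false

namespace CfsgLib.InvChar.ConjRank

open scoped Pointwise

universe u

variable {G : Type u} [Group G] [Finite G]

local notation "n[" x "]" => Nat.card (cent x)

theorem dvd_lcm_of_values {a b c : ℕ} (hab : a ∣ b)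
    (hV : ∀ x : G, x ≠ 1 → n[x] = a ∨ n[x] = b ∨ n[x] = c) : Nat.card G ∣ b.lcm c := by
  refine (Nat.dvd_iff_prime_pow_dvd_dvd _ _).mpr fun p k hp hpk => ?_
  rcases Nat.eq_zero_or_pos k with rfl | hk
  · simp
  obtain ⟨z, hz, hfull⟩ := exists_orderOf_full hp ((dvd_pow_self p hk.ne').trans hpk)
  have hz1 : z ≠ 1 := fun e => hp.ne_one (by rw [← hz, e, orderOf_one])
  have h : p ^ k ∣ n[z] := (pow_dvd_pow p ((hp.pow_dvd_iff_le_factorization Nat.card_pos.ne').mp hpk)).trans hfull
  rcases hV z hz1 with e | e | e <;> rw [e] at h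
  · exact (h.trans hab).trans (Nat.dvd_lcm_left b c)
  · exact h.trans (Nat.dvd_lcm_left b c)
  · exact h.trans (Nat.dvd_lcm_right b c)

/-- A value below two incomparable ones. -/
theorem false_of_below_both [IsSimpleGroup G] (hG : ¬ IsMulCommutative G) {a b c : ℕ}
    (hV : ∀ x : G, x ≠ 1 → n[x] = a ∨ n[x] = b ∨ n[x] = c) {w : G} (hw : w ≠ 1) (hwa : n[w] = a)
    {y₀ : G} (hy₀ : y₀ ≠ 1) (hy₀b : n[y₀] = b) {y₁ : G} (hy₁ : y₁ ≠ 1) (hy₁c : n[y₁] = c)
    (hab : a ∣ b) (hac : a ∣ c) (hbc : ¬ b ∣ c) (hcb : ¬ c ∣ b) : False := by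
  classical
  have hb0 : b ≠ 0 := hy₀b ▸ Nat.card_pos.ne'
  have hc0 : c ≠ 0 := hy₁c ▸ Nat.card_pos.ne'
  have hlcm : b.lcm c = Nat.card G := Nat.dvd_antisymm
    (Nat.lcm_dvd (hy₀b ▸ Subgroup.card_subgroup_dvd_card _)
      (hy₁c ▸ Subgroup.card_subgroup_dvd_card _)) (dvd_lcm_of_values hab hV)
  -- elements of the two maximal kinds never commute
  have hL : ∀ x y : G, x ≠ 1 → n[x] = b → n[y] = c → y ∉ cent x := by
    intro x y hx hxb hyc hyx
    have hfac := (card_inf_eq_gcd (H := cent x) (K := cent y) (by rw [hxb, hyc, hlcm])).2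
    have hall : ∀ g : G, g * y * g⁻¹ ∈ cent x := by
      intro g
      obtain ⟨β, hβ, μ, hμ, rfl⟩ := hfac g
      have : β * μ * y * (β * μ)⁻¹ = β * y * β⁻¹ := by
        rw [mul_assoc β μ y, (mem_cent.mp hμ).eq]; group
      rw [this]
      exact (cent x).mul_mem ((cent x).mul_mem hβ hyx) ((cent x).inv_mem hβ)
    have hy1 : y ≠ 1 := by
      intro e
      have : cent y = ⊤ := by
        rw [e]; ext v; simp [mem_cent]
      rw [this, Subgroup.card_top] at hyc
      exact hbc (hyc ▸ hxb ▸ Subgroup.card_subgroup_dvd_card _)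
    have hN : Subgroup.normalClosure ({y} : Set G) ≤ cent x := by
      rw [Subgroup.normalClosure, Subgroup.closure_le]
      intro v hv
      obtain ⟨a', ha', hc'⟩ := Group.mem_conjugatesOfSet_iff.mp hv
      rw [Set.mem_singleton_iff] at ha'
      subst ha'
      obtain ⟨g, rfl⟩ := isConj_iff.mp hc'
      exact hall g
    have htop : Subgroup.normalClosure ({y} : Set G) = ⊤ :=
      (Subgroup.normalClosure_normal.eq_bot_or_eq_top).resolve_left fun h =>
        hy1 (Subgroup.mem_bot.mp (h ▸ Subgroup.subset_normalClosure (Set.mem_singleton y)))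
    rw [htop, top_le_iff] at hN
    exact card_cent_ne_card hG hx (by rw [hN, Subgroup.card_top])
  have hamin : ∀ z : G, n[z] = a → MinC z := by
    intro z hz v hv hd
    rw [hz] at hd ⊢
    rcases hV v hv with e | e | e <;> rw [e] at hd
    · exact e
    · exact absurd (hd.trans hac) hbc
    · exact absurd (hd.trans hab) hcb
  -- primes with larger part in `b`, in `c`
  have hexp : ∀ {s t : ℕ}, s ≠ 0 → t ≠ 0 → ¬ s ∣ t → ∃ p, p.Prime ∧ t.factorization p < s.factorization p := by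
    intro s t hs ht hst
    rw [← Nat.factorization_le_iff_dvd hs ht, Finsupp.le_def] at hst
    push Not at hst
    obtain ⟨p, hp⟩ := hst
    refine ⟨p, ?_, hp⟩
    by_contra hnp
    rw [Nat.factorization_eq_zero_of_not_prime s hnp] at hp
    exact Nat.not_lt_zero _ hp
  obtain ⟨p, hp, hpbc⟩ := hexp hb0 hc0 hbc
  obtain ⟨q, hq, hqcb⟩ := hexp hc0 hb0 hcb
  have hpq : p ≠ q := fun e => by subst e; omega
  have ha0 : a ≠ 0 := hwa ▸ Nat.card_pos.ne'
  have hfact : ∀ r, (Nat.card G).factorization r = max (b.factorization r) (c.factorization r) := by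
    intro r; rw [← hlcm, Nat.factorization_lcm hb0 hc0]; rfl
  have hdle : ∀ {s t : ℕ}, t ≠ 0 → s ∣ t → ∀ r, s.factorization r ≤ t.factorization r := by
    intro s t ht hst r
    exact (Nat.factorization_le_iff_dvd (fun e => ht (Nat.eq_zero_of_zero_dvd (e ▸ hst))) ht).mpr hst r
  have hdvdG : ∀ {r : ℕ}, r.Prime → 0 < (Nat.card G).factorization r → r ∣ Nat.card G := fun _ h =>
    Nat.dvd_of_factorization_pos h.ne'
  obtain ⟨x, hx, hxfull⟩ := exists_orderOf_full hp (hdvdG hp (by rw [hfact]; omega))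
  obtain ⟨y, hy, hyfull⟩ := exists_orderOf_full hq (hdvdG hq (by rw [hfact]; omega))
  have hx1 : x ≠ 1 := fun e => hp.ne_one (by rw [← hx, e, orderOf_one])
  have hy1 : y ≠ 1 := fun e => hq.ne_one (by rw [← hy, e, orderOf_one])
  rw [hp.pow_dvd_iff_le_factorization Nat.card_pos.ne', hfact] at hxfull
  rw [hq.pow_dvd_iff_le_factorization Nat.card_pos.ne', hfact] at hyfull
  have hxb : n[x] = b := by
    rcases hV x hx1 with e | e | e
    · rw [e] at hxfull; have := hdle hc0 hac p; omega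
    · exact e
    · rw [e] at hxfull; omega
  have hyc : n[y] = c := by
    rcases hV y hy1 with e | e | e
    · rw [e] at hyfull; have := hdle hb0 hab q; omega
    · rw [e] at hyfull; omega
    · exact e
  set D := cent x ⊓ cent y with hD
  have hdcard : Nat.card D = b.gcd c := by
    rw [hD, (card_inf_eq_gcd (by rw [hxb, hyc, hlcm])).1, hxb, hyc]
  have hd1 : 1 < Nat.card D := by
    rw [hdcard]
    exact lt_of_lt_of_le (hwa ▸ one_lt_card_cent hw)
      (Nat.le_of_dvd (Nat.gcd_pos_of_pos_left _ (Nat.pos_of_ne_zero hb0)) (Nat.dvd_gcd hab hac))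
  obtain ⟨r, hr, hrd⟩ := Nat.exists_prime_and_dvd hd1.ne'
  have : Fact r.Prime := ⟨hr⟩
  obtain ⟨⟨e, heD⟩, heo⟩ := exists_prime_orderOf_dvd_card' (G := D) r hrd
  rw [Subgroup.orderOf_mk] at heo
  have he1 : e ≠ 1 := fun h => hr.ne_one (by rw [← heo, h, orderOf_one])
  have hcomm : y ∈ cent x := by
    have hxe : x ∈ cent e := mem_cent_comm.mp heD.1
    have hye : y ∈ cent e := mem_cent_comm.mp heD.2
    rcases hV e he1 with ea | eb | ec
    · by_cases hrp : r = p
      · have h := central_of_min he1 (hamin e ea) hye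
          (by rw [heo, hy, Nat.coprime_primes hr hq]; omega) hxe
        exact mem_cent_comm.mp h
      · exact central_of_min he1 (hamin e ea) hxe
          (by rw [heo, hx, Nat.coprime_primes hr hp]; exact hrp) hye
    · exact absurd hye (hL e y he1 eb hyc)
    · exact absurd (mem_cent_comm.mp hxe) (hL x e hx1 hxb ec)
  exact hL x y hx1 hxb hyc hcomm

/-- A value below a second one, the third one incomparable with both. -/
theorem false_of_apart [IsSimpleGroup G] (hG : ¬ IsMulCommutative G) {a b c : ℕ}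
    (hV : ∀ x : G, x ≠ 1 → n[x] = a ∨ n[x] = b ∨ n[x] = c)
    {x : G} (hx : x ≠ 1) (hxb : n[x] = b) {y : G} (hy : y ≠ 1) (hyc : n[y] = c)
    (hab : a ∣ b) (hne : a ≠ b) (hbc : ¬ b ∣ c) (hcb : ¬ c ∣ b) (hac : ¬ a ∣ c) (hca : ¬ c ∣ a) :
    False := by
  classical
  have := Fintype.ofFinite G
  have hlcm : b.lcm c = Nat.card G := Nat.dvd_antisymm
    (Nat.lcm_dvd (hxb ▸ Subgroup.card_subgroup_dvd_card _)
      (hyc ▸ Subgroup.card_subgroup_dvd_card _)) (dvd_lcm_of_values hab hV)
  have hcmin : ∀ z : G, n[z] = c → MinC z := by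
    intro z hz v hv hd
    rw [hz] at hd ⊢
    rcases hV v hv with e | e | e <;> rw [e] at hd
    · exact absurd hd hac
    · exact absurd hd hbc
    · exact e
  have hcmax : ∀ z v : G, v ≠ 1 → n[z] = c → cent z ≤ cent v → cent z = cent v := by
    intro z v hv hz hle
    have hd := Subgroup.card_dvd_of_le hle
    refine eq_of_le_of_dvd hle ?_
    rw [hz] at hd ⊢
    rcases hV v hv with e | e | e <;> rw [e] at hd ⊢
    · exact absurd hd hca
    · exact absurd hd hcb
  have hamin : ∀ z : G, n[z] = a → MinC z := by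
    intro z hz v hv hd
    rw [hz] at hd ⊢
    rcases hV v hv with e | e | e <;> rw [e] at hd
    · exact e
    · exact absurd (Nat.dvd_antisymm hab hd) hne
    · exact absurd hd hca
  -- `c` is not a prime power
  have hcnp : ∀ p k : ℕ, p.Prime → c ≠ p ^ k := by
    intro p k hp e
    have h1 := Nat.dvd_mul_right (n[x]) (cent x).index
    have h2 : (cent x).index ∣ p ^ k := by
      refine Nat.dvd_of_mul_dvd_mul_left (Nat.card_pos (α := cent x)) ?_
      rw [Subgroup.card_mul_index, ← hlcm, hxb, ← e]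
      exact Nat.lcm_dvd_mul b c
    obtain ⟨j, -, hj⟩ := (Nat.dvd_prime_pow hp).mp h2
    exact index_ne_prime_pow hG hx hp hj
  -- the centraliser of `y` is abelian
  obtain ⟨p, kp, hp, hop⟩ := exists_prime_pow_order hy
  set y₀ := y ^ kp
  have hy₀ : y₀ ≠ 1 := fun e => hp.ne_one (by rw [← hop, e, orderOf_one])
  have hC₀ : cent y = cent y₀ := hcmax y y₀ hy₀ hyc (cent_le_pow y kp)
  have hy₀c : n[y₀] = c := by rw [← hC₀, hyc]
  have hc1 : c ≠ 1 := by have := one_lt_card_cent hy; omega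
  obtain ⟨r, hr, hrp, hrc⟩ : ∃ r, r.Prime ∧ r ≠ p ∧ r ∣ c := by
    by_contra hno
    push Not at hno
    exact hcnp p _ hp (Nat.eq_prime_pow_of_unique_prime_dvd (hyc ▸ Nat.card_pos.ne')
      (fun {d} hd hdc => by_contra fun h => hno d hd h hdc))
  have : Fact r.Prime := ⟨hr⟩
  obtain ⟨⟨z, hzC⟩, hzo⟩ := exists_prime_orderOf_dvd_card' (G := cent y₀) r (hy₀c.symm ▸ hrc)
  rw [Subgroup.orderOf_mk] at hzo
  have hz : z ≠ 1 := fun e => hr.ne_one (by rw [← hzo, e, orderOf_one])
  have hCz : cent y₀ = cent z := hcmax y₀ z hz hy₀c (central_of_min hy₀ (hcmin y₀ hy₀c) hzC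
    (by rw [hop, hzo]; exact (Nat.coprime_primes hp hr).mpr hrp.symm))
  set C := cent y₀ with hC
  have hzc : n[z] = c := by rw [← hCz]; exact hy₀c
  have hcomm : IsMulCommutative C := ⟨⟨fun u v => Subtype.ext (commute_of_two_min hp hr hrp.symm
    hop hzo (hcmin y₀ hy₀c) (hcmin z hzc) hCz u.2 v.2).eq⟩⟩
  have hcent : ∀ h ∈ C, h ≠ 1 → cent h = C := by
    intro h hh hh1
    refine (hcmax y₀ h hh1 hy₀c fun v hv => ?_).symm
    exact mem_cent.mpr (congrArg Subtype.val (hcomm.is_comm.comm ⟨v, hv⟩ ⟨h, hh⟩))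
  -- coprimality
  have hgcd : b.Coprime c := by
    by_contra hg
    have hinf : 1 < Nat.card (cent x ⊓ C : Subgroup G) := by
      rw [(card_inf_eq_gcd (by rw [hxb, hy₀c, hlcm])).1, hxb, hy₀c]
      exact lt_of_le_of_ne (Nat.gcd_pos_of_pos_left _ (hxb ▸ Nat.card_pos)) (Ne.symm hg)
    obtain ⟨e, he, he1⟩ := (Subgroup.bot_or_exists_ne_one _).resolve_left
      ((Subgroup.one_lt_card_iff_ne_bot _).mp hinf)
    have hxC : x ∈ C := hcent e he.2 he1 ▸ mem_cent_comm.mp he.1
    exact hcb (hxb ▸ hy₀c ▸ hcent x hxC hx ▸ dvd_rfl)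
  set B := cent x with hB
  have hcard : n[x] * Nat.card C = Nat.card G := by
    rw [hxb, hy₀c, ← hgcd.lcm_eq_mul, hlcm]
  have huniq : ∀ w : G, w ≠ 1 → n[w] = b → ∀ g₁ g₂ : G, g₁⁻¹ * w * g₁ ∈ B →
      g₂⁻¹ * w * g₂ ∈ B → g₁⁻¹ * g₂ ∈ B := fun w hw hwb g₁ g₂ h₁ h₂ =>
    coset_unique hG hcomm hcent (by rw [hxb, hy₀c]; exact hgcd) hcard hw (hwb.trans hxb.symm) h₁ h₂
  -- `B` is a Frobenius complement
  have hTI : ∀ g : G, g ∉ B → B ⊓ MulAut.conj g • B = ⊥ := by
    intro g hg
    by_contra hne'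
    obtain ⟨v, hv, hv1⟩ := (Subgroup.bot_or_exists_ne_one _).resolve_left hne'
    obtain ⟨s, k, hs, hso⟩ := exists_prime_pow_order hv1
    set e := v ^ k
    have he1 : e ≠ 1 := fun h => hs.ne_one (by rw [← hso, h, orderOf_one])
    obtain ⟨heB, heB'⟩ := Subgroup.mem_inf.mp ((B ⊓ MulAut.conj g • B).pow_mem hv k)
    rw [Subgroup.mem_pointwise_smul_iff_inv_smul_mem, ← map_inv, MulAut.smul_def,
      MulAut.conj_apply, inv_inv] at heB'
    change e ∈ B at heB
    change g⁻¹ * e * g ∈ B at heB'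
    rcases hV e he1 with ea | eb | ec
    · have hn := isNilpotent_of_min hs hso (hamin e ea)
      set H := cent e
      have hxH : x ∈ H := mem_cent_comm.mp heB
      have hHB : B.subgroupOf H = ⊤ := by
        refine (normalizerCondition_iff_only_full_group_self_normalizing.mp
          (normalizerCondition_of_isNilpotent (h := hn))) _ (le_antisymm ?_ Subgroup.le_normalizer)
        intro n hn'
        have h := (Subgroup.mem_normalizer_iff.mp hn' ⟨x, hxH⟩).mp
          (Subgroup.mem_subgroupOf.mpr (self_mem_cent x))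
        rw [Subgroup.mem_subgroupOf] at h
        simp only [Subgroup.coe_mul, Subgroup.coe_inv] at h
        rw [Subgroup.mem_subgroupOf]
        have h2 := huniq x hx hxb (n : G)⁻¹ 1 (by simpa [mul_assoc] using h)
          (by simpa using self_mem_cent x)
        simpa using h2
      rw [Subgroup.subgroupOf_eq_top] at hHB
      have hx' : g * x * g⁻¹ ∈ H := mem_cent_comm.mp (mem_cent_conj.mpr heB')
      have h2 := huniq x hx hxb g⁻¹ 1 (by simpa using hHB hx') (by simpa using self_mem_cent x)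
      exact hg (by simpa using h2)
    · exact hg (by simpa using huniq e he1 eb 1 g (by simpa using heB) heB')
    · have h1 : orderOf e ∣ b := hxb ▸ Subgroup.orderOf_dvd_natCard B heB
      have h2 : orderOf e ∣ c := ec ▸ Subgroup.orderOf_dvd_natCard (cent e) (self_mem_cent e)
      rw [hso] at h1 h2
      exact hs.ne_one (Nat.eq_one_of_dvd_coprimes hgcd h1 h2)
  have hBbot : B ≠ ⊥ := fun h => hx (Subgroup.mem_bot.mp (h ▸ self_mem_cent x))
  have hBtop : B ≠ ⊤ := fun h => card_cent_ne_card hG hx (by rw [← hB, h, Subgroup.card_top])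
  obtain ⟨N, -, hN, hc'⟩ := CfsgLib.Solvable.exists_frobeniusKernel (H := B) ⟨hBbot, hBtop, hTI⟩
  have hmul := hc'.card_mul
  rcases hN.eq_bot_or_eq_top with h | h
  · rw [h, Subgroup.card_bot, one_mul] at hmul
    exact card_cent_ne_card hG hx hmul
  · rw [h, Subgroup.card_top] at hmul
    have := (Nat.mul_eq_left Nat.card_pos.ne').mp hmul
    exact hBbot (Subgroup.eq_bot_of_card_eq _ this)

/-- In a simple group with three centraliser orders no one properly divides another. -/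
theorem minC_of_three [IsSimpleGroup G] (hG : ¬ IsMulCommutative G)
    (h3 : {v : ℕ | ∃ x : G, x ≠ 1 ∧ n[x] = v}.ncard = 3) (z : G) (hz : z ≠ 1) : MinC z := by
  classical
  intro w hw hd
  by_contra hne
  set V := {v : ℕ | ∃ x : G, x ≠ 1 ∧ n[x] = v}
  have ha : n[w] ∈ V := ⟨w, hw, rfl⟩
  have hb : n[z] ∈ V := ⟨z, hz, rfl⟩
  have hfin : V.Finite := Set.finite_of_ncard_ne_zero (by rw [h3]; norm_num)
  have h1 : ((V \ {n[w]}) \ {n[z]}).ncard = 1 := by
    rw [Set.ncard_sdiff_singleton_of_mem (a := n[z]) (s := V \ {n[w]})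
        ⟨hb, fun h => hne (Set.mem_singleton_iff.mp h).symm⟩,
      Set.ncard_sdiff_singleton_of_mem ha, h3]
  obtain ⟨c, hc⟩ := Set.ncard_eq_one.mp h1
  obtain ⟨⟨⟨y, hy, hyc⟩, hca'⟩, hcb'⟩ := hc.ge (Set.mem_singleton c)
  have hV : ∀ x : G, x ≠ 1 → n[x] = n[w] ∨ n[x] = n[z] ∨ n[x] = c := by
    intro x hx
    by_contra hno
    push Not at hno
    exact hno.2.2 (Set.mem_singleton_iff.mp (hc.le ⟨⟨⟨x, hx, rfl⟩, hno.1⟩, hno.2.1⟩))
  have hlcm := dvd_lcm_of_values hd hV
  have hbc : ¬ n[z] ∣ c := by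
    intro h
    rw [Nat.lcm_eq_right h, ← hyc] at hlcm
    exact card_cent_ne_card hG hy (Nat.dvd_antisymm (Subgroup.card_subgroup_dvd_card _) hlcm)
  have hcb : ¬ c ∣ n[z] := by
    intro h
    rw [Nat.lcm_eq_left h] at hlcm
    exact card_cent_ne_card hG hz (Nat.dvd_antisymm (Subgroup.card_subgroup_dvd_card _) hlcm)
  by_cases hac : n[w] ∣ c
  · exact false_of_below_both hG hV hw rfl hz rfl hy hyc hd hac hbc hcb
  · exact false_of_apart hG hV hz rfl hy hyc hd hne hbc hcb hac (fun h => hcb (h.trans hd))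

/-- A simple group all whose elements are minimal has even order. -/
theorem even_of_min [IsSimpleGroup G] (hG : ¬ IsMulCommutative G)
    (hmin : ∀ z : G, z ≠ 1 → MinC z) : Even (Nat.card G) := by
  by_contra hodd
  rw [Nat.not_even_iff_odd] at hodd
  have hcn : Cfsg.IsCNGroup G := by
    intro g hg
    obtain ⟨p, k, hp, ho⟩ := exists_prime_pow_order hg
    have hne : g ^ k ≠ 1 := fun e => hp.ne_one (by rw [← ho, e, orderOf_one])
    have he : cent g = cent (g ^ k) := (hmin (g ^ k) hne).eq_of_le hg (cent_le_pow g k)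
    have hn := isNilpotent_of_min hp ho (hmin _ hne)
    exact Group.nilpotent_of_mulEquiv (_h := hn) (MulEquiv.subgroupCongr he.symm)
  exact hG ⟨⟨IsSimpleGroup.comm_iff_isSolvable.2 (CfsgLib.Char.isSolvable_of_cn_odd hodd hcn)⟩⟩

end CfsgLib.InvChar.ConjRank
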