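import Cfsg.Agent.Lib.InvChar.ConjRank.CentreFreeBasic
import Cfsg.Agent.Lib.InvChar.ConjRank.RankThree
import Cfsg.Agent.S4134

/-!
# A centraliser order dividing two incomparable ones

With trivial centre such a configuration of three centraliser orders forces solvability: there are
commuting elements of prime orders `p`, `q` of the two upper kinds and the order of the group has
no further prime divisor.
-/

set_option autoImplicit false

namespace CfsgLib.InvChar.ConjRank

universe u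

variable {G : Type u} [Group G] [Finite G]

local notation "n[" x "]" => Nat.card (cent x)

/-- A value below two incomparable ones. -/
structure Below (G : Type u) [Group G] (a b c : ℕ) : Prop where
  val : ∀ x : G, x ≠ 1 → Nat.card (cent x) = a ∨ Nat.card (cent x) = b ∨ Nat.card (cent x) = c
  hab : a ∣ b
  hac : a ∣ c
  hbc : ¬ b ∣ c
  hcb : ¬ c ∣ b

omit [Finite G] in
theorem Below.symm {a b c : ℕ} (h : Below G a b c) : Below G a c b :=
  ⟨fun x hx => (h.val x hx).imp_right Or.symm, h.hac, h.hab, h.hcb, h.hbc⟩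

omit [Finite G] in
theorem Below.dvd {a b c : ℕ} (h : Below G a b c) (x : G) (hx : x ≠ 1) : a ∣ n[x] := by
  rcases h.val x hx with e | e | e <;> rw [e]
  exacts [h.hab, h.hac]

omit [Finite G] in
theorem Below.minC {a b c : ℕ} (h : Below G a b c) {z : G} (hz : n[z] = a) : MinC z := by
  intro v hv hd
  rw [hz] at hd ⊢
  rcases h.val v hv with e | e | e <;> rw [e] at hd
  · exact e
  · exact absurd (hd.trans h.hac) h.hbc
  · exact absurd (hd.trans h.hab) h.hcb

theorem Below.lcm_eq {a b c : ℕ} (h : Below G a b c) {x y : G} (hx : n[x] = b) (hy : n[y] = c) :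
    b.lcm c = Nat.card G :=
  Nat.dvd_antisymm (Nat.lcm_dvd (hx ▸ Subgroup.card_subgroup_dvd_card _)
    (hy ▸ Subgroup.card_subgroup_dvd_card _)) (dvd_lcm_of_values h.hab h.val)

omit [Finite G] in
theorem exists_factorization_lt {s t : ℕ} (hs : s ≠ 0) (ht : t ≠ 0) (hst : ¬ s ∣ t) :
    ∃ p, p.Prime ∧ t.factorization p < s.factorization p := by
  rw [← Nat.factorization_le_iff_dvd hs ht, Finsupp.le_def] at hst
  push Not at hst
  obtain ⟨p, hp⟩ := hst
  refine ⟨p, ?_, hp⟩
  by_contra hnp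
  rw [Nat.factorization_eq_zero_of_not_prime s hnp] at hp
  exact Nat.not_lt_zero _ hp

/-- Commuting elements of different prime orders of the kinds `b` and `c`. -/
def HasPair (G : Type u) [Group G] (b c : ℕ) : Prop :=
  ∃ (x y : G) (p q : ℕ), p.Prime ∧ q.Prime ∧ p ≠ q ∧ orderOf x = p ∧ orderOf y = q ∧
    Nat.card (cent x) = b ∧ Nat.card (cent y) = c ∧ Commute x y

omit [Finite G] in
theorem HasPair.symm {b c : ℕ} : HasPair G b c → HasPair G c b :=
  fun ⟨x, y, p, q, hp, hq, hne, ox, oy, hx, hy, hc⟩ =>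
    ⟨y, x, q, p, hq, hp, hne.symm, oy, ox, hy, hx, hc.symm⟩

theorem pair_aux {a b c : ℕ} {x y : G} {p q : ℕ} (hp : p.Prime) (hq : q.Prime) (hpq : p ≠ q)
    (ox : orderOf x = p) (oy : orderOf y = q) (hxb : n[x] = b) (hyc : n[y] = c)
    (h : Below G a b c) (hqv : b.factorization q < c.factorization q) {e : G} {r : ℕ} (hr : r.Prime)
    (oe : orderOf e = r) (heb : n[e] = b) (he : e ∈ cent x ⊓ cent y)
    (hfull : r = q → (Nat.card (cent x ⊓ cent y : Subgroup G)).factorization q ≤
      (Nat.card (cent x ⊓ cent y ⊓ cent e : Subgroup G)).factorization q) :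
    HasPair G b c := by
  by_cases hrq : r = q
  · subst hrq
    have hd : Nat.card (cent x ⊓ cent y : Subgroup G) = b.gcd c := by
      rw [(card_inf_eq_gcd (by rw [hxb, hyc, h.lcm_eq hxb hyc])).1, hxb, hyc]
    have hye : y ∈ cent e := mem_cent_comm.mp he.2
    have hyx : y ∈ cent x := by
      refine (mem_of_central_of_full (K := cent x ⊓ cent y ⊓ cent e) (L := cent y ⊓ cent e)
        (le_inf (inf_le_left.trans inf_le_right) inf_le_right) hr (y := y)
        ⟨self_mem_cent y, hye⟩ (i := 1) (by rw [oy, pow_one]) inf_le_left ?_).1.1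
      refine le_trans ?_ (hfull rfl)
      refine (factorization_card_le (inf_le_right : cent y ⊓ cent e ≤ cent e) _).trans ?_
      rw [hd, heb, Nat.factorization_gcd (hxb ▸ Nat.card_pos.ne') (hyc ▸ Nat.card_pos.ne'),
        Finsupp.inf_apply]
      exact le_inf le_rfl hqv.le
    exact ⟨x, y, p, r, hp, hr, hpq, ox, oy, hxb, hyc, (mem_cent.mp hyx).symm⟩
  · exact ⟨e, y, r, q, hr, hq, hrq, oe, oy, heb, hyc, mem_cent.mp he.2⟩

theorem Below.exists_pair {a b c : ℕ} (h : Below G a b c) {w x₀ y₀ : G} (hw : w ≠ 1)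
    (hwa : n[w] = a) (hx₀ : n[x₀] = b) (hy₀ : n[y₀] = c) : HasPair G b c := by
  have hb0 : b ≠ 0 := hx₀ ▸ Nat.card_pos.ne'
  have hc0 : c ≠ 0 := hy₀ ▸ Nat.card_pos.ne'
  have hlcm := h.lcm_eq hx₀ hy₀
  obtain ⟨p, hp, hpbc⟩ := exists_factorization_lt hb0 hc0 h.hbc
  obtain ⟨q, hq, hqcb⟩ := exists_factorization_lt hc0 hb0 h.hcb
  have hpq : p ≠ q := fun e => by subst e; omega
  have hfact : ∀ r, (Nat.card G).factorization r = max (b.factorization r) (c.factorization r) := by
    intro r; rw [← hlcm, Nat.factorization_lcm hb0 hc0]; rfl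
  have hdvdG : ∀ {r : ℕ}, 0 < (Nat.card G).factorization r → r ∣ Nat.card G :=
    fun h => Nat.dvd_of_factorization_pos h.ne'
  obtain ⟨x, ox, hxfull⟩ := exists_orderOf_full (G := G) hp (hdvdG (by rw [hfact]; omega))
  obtain ⟨y, oy, hyfull⟩ := exists_orderOf_full (G := G) hq (hdvdG (by rw [hfact]; omega))
  replace hxfull := le_factorization_of_pow_dvd hp Nat.card_pos.ne' hxfull
  replace hyfull := le_factorization_of_pow_dvd hq Nat.card_pos.ne' hyfull
  rw [hfact] at hxfull hyfull
  have hxb : n[x] = b := by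
    rcases h.val x (ne_one_of_orderOf_prime hp ox) with e | e | e <;> rw [e] at hxfull
    · have := factorization_le_of_dvd hc0 h.hac p; omega
    · exact e
    · omega
  have hyc : n[y] = c := by
    rcases h.val y (ne_one_of_orderOf_prime hq oy) with e | e | e <;> rw [e] at hyfull
    · have := factorization_le_of_dvd hb0 h.hab q; omega
    · omega
    · exact e
  have hd : 1 < Nat.card (cent x ⊓ cent y : Subgroup G) := by
    rw [(card_inf_eq_gcd (by rw [hxb, hyc, hlcm])).1, hxb, hyc]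
    exact lt_of_lt_of_le (hwa ▸ one_lt_card_cent hw)
      (Nat.le_of_dvd (Nat.gcd_pos_of_pos_left _ (Nat.pos_of_ne_zero hb0)) (Nat.dvd_gcd h.hab h.hac))
  obtain ⟨r, hr, hrd⟩ := Nat.exists_prime_and_dvd hd.ne'
  obtain ⟨e, he, oe, hfull⟩ := exists_orderOf_full_in _ hr hrd
  have he1 := ne_one_of_orderOf_prime hr oe
  rcases h.val e he1 with ea | eb | ec
  · by_cases hrp : r = p
    · have hrq : r ≠ q := hrp ▸ hpq
      have h1 := central_of_min he1 (h.minC ea) (mem_cent_comm.mp he.2)
        (by rw [oe, oy, Nat.coprime_primes hr hq]; exact hrq) (mem_cent_comm.mp he.1)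
      exact ⟨x, y, p, q, hp, hq, hpq, ox, oy, hxb, hyc, mem_cent.mp h1⟩
    · have h1 := central_of_min he1 (h.minC ea) (mem_cent_comm.mp he.1)
        (by rw [oe, ox, Nat.coprime_primes hr hp]; exact hrp) (mem_cent_comm.mp he.2)
      exact ⟨x, y, p, q, hp, hq, hpq, ox, oy, hxb, hyc, (mem_cent.mp h1).symm⟩
  · exact pair_aux hp hq hpq ox oy hxb hyc h hqcb hr oe eb he fun e => e ▸ hfull
  · refine (pair_aux hq hp hpq.symm oy ox hyc hxb h.symm hpbc hr oe ec ⟨he.2, he.1⟩ fun e => ?_).symm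
    rw [inf_comm (cent y) (cent x)]
    exact e ▸ hfull

/-- Away from the two primes of a pair the order `c` has the same part as `a`. -/
theorem Below.part_le {a b c : ℕ} (h : Below G a b c) {x y : G} {p q : ℕ} (hp : p.Prime)
    (hq : q.Prime) (hpq : p ≠ q) (ox : orderOf x = p) (oy : orderOf y = q) (hxb : n[x] = b)
    (hyc : n[y] = c) (hxy : Commute x y) {r : ℕ} (hr : r.Prime) (hrp : r ≠ p) (hrq : r ≠ q) :
    c.factorization r ≤ a.factorization r := by
  classical
  by_contra hlt
  push Not at hlt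
  have ha0 : a ≠ 0 := fun e => by have := h.hac; rw [e, zero_dvd_iff] at this; exact (hyc ▸ Nat.card_pos.ne') this
  have hc0 : c ≠ 0 := hyc ▸ Nat.card_pos.ne'
  have hlcm := h.lcm_eq hxb hyc
  have hy1 := ne_one_of_orderOf_prime hq oy
  have hco : (orderOf x).Coprime (orderOf y) := by
    rw [ox, oy]; exact (Nat.coprime_primes hp hq).mpr hpq
  -- `a` is the greatest common divisor
  have hagcd : a = b.gcd c := by
    have hne := mul_ne_one_of_coprime (ne_one_of_orderOf_prime hp ox) hco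
    have he := cent_mul_eq_of_coprime hxy hco
    have hc' : n[x * y] = b.gcd c := by
      rw [he, (card_inf_eq_gcd (by rw [hxb, hyc, hlcm])).1, hxb, hyc]
    rcases h.val _ hne with e | e | e
    · rw [← e, hc']
    · exact absurd (e ▸ hc' ▸ Nat.gcd_dvd_right b c) h.hbc
    · exact absurd (e ▸ hc' ▸ Nat.gcd_dvd_left b c) h.hcb
  have hbr : b.factorization r ≤ a.factorization r := by
    rw [hagcd, Nat.factorization_gcd (hxb ▸ Nat.card_pos.ne') hc0, Finsupp.inf_apply] at hlt ⊢
    rcases le_total (b.factorization r) (c.factorization r) with h' | h'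
    · rw [inf_eq_left.mpr h']
    · rw [inf_eq_right.mpr h'] at hlt; omega
  set H := cent y
  have hrH : r ∣ Nat.card H :=
    Nat.dvd_of_factorization_pos (by rw [hyc]; omega)
  obtain ⟨z, hzH, oz, hzfull⟩ := exists_orderOf_full_in H hr hrH
  have hz1 := ne_one_of_orderOf_prime hr oz
  have hzy : (orderOf z).Coprime (orderOf y) := by
    rw [oz, oy]; exact (Nat.coprime_primes hr hq).mpr hrq
  have hcz : cent (z * y) = cent z ⊓ H := cent_mul_eq_of_coprime (mem_cent.mp hzH) hzy
  have hzyc : n[z * y] = c := by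
    have h0 : c.factorization r ≤ (n[z * y]).factorization r := by
      rw [hcz, inf_comm, ← hyc]; exact hzfull
    rcases h.val _ (mul_ne_one_of_coprime hz1 hzy) with e | e | e
    · rw [e] at h0; omega
    · rw [e] at h0; omega
    · exact e
  have hHle : H ≤ cent z := by
    have e : cent (z * y) = H := eq_of_le_of_dvd (hcz.le.trans inf_le_right) (by rw [hzyc, hyc])
    exact e.symm.le.trans (hcz.le.trans inf_le_left)
  have hzH' : cent z = H := by
    have hd : c ∣ n[z] := hyc ▸ Subgroup.card_dvd_of_le hHle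
    refine (eq_of_le_of_dvd hHle ?_).symm
    rcases h.val z hz1 with e | e | e <;> rw [e] at hd ⊢
    · exact absurd (hd.trans h.hab) h.hcb
    · exact absurd hd h.hcb
    · rw [hyc]
  have hH : ∀ w ∈ ({y, z} : Set G), cent w = H := by
    rintro w (rfl | rfl)
    exacts [rfl, hzH']
  -- a partner of coprime order
  have hpartner : ∀ {f : G} {s i : ℕ}, s.Prime → orderOf f = s ^ i →
      ∃ w : G, cent w = H ∧ w ≠ 1 ∧ (orderOf f).Coprime (orderOf w) ∧
        (orderOf x).Coprime (orderOf w) := by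
    intro f s i hs hof
    by_cases hsq : s = q
    · refine ⟨z, hzH', hz1, ?_, ?_⟩
      · rw [hof, oz, hsq]; exact ((Nat.coprime_primes hq hr).mpr hrq.symm).pow_left i
      · rw [ox, oz]; exact (Nat.coprime_primes hp hr).mpr hrp.symm
    · refine ⟨y, rfl, hy1, ?_, hco⟩
      rw [hof, oy]; exact ((Nat.coprime_primes hs hq).mpr hsq).pow_left i
  have hinf : ∀ {f w : G}, f ∈ H → cent w = H → (orderOf f).Coprime (orderOf w) →
      cent (f * w) = H ⊓ cent f := fun {f w} hf hw hfw => by
    rw [cent_mul_eq_of_coprime (mem_cent.mp (hw.symm ▸ hf : f ∈ cent w)) hfw, hw, inf_comm]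
  have hcardT : ∀ {f : G} {s i : ℕ}, f ∈ H → s.Prime → orderOf f = s ^ i → ¬ H ≤ cent f →
      Nat.card (H ⊓ cent f : Subgroup G) = a := by
    intro f s i hf hs hof hnc
    obtain ⟨w, hw, hw1, hfw, -⟩ := hpartner hs hof
    have hne : f * w ≠ 1 := fun e => mul_ne_one_of_coprime hw1 hfw.symm
      (by rw [(mem_cent.mp (hw.symm ▸ hf : f ∈ cent w)).eq] at e; exact e)
    have hd : n[f * w] ∣ c := by
      rw [hinf hf hw hfw, ← hyc]; exact Subgroup.card_dvd_of_le inf_le_left
    rcases h.val _ hne with e | e | e <;> rw [hinf hf hw hfw] at e hd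
    · exact e
    · exact absurd (e ▸ hd) h.hbc
    · exact absurd (inf_eq_left.mp (eq_of_le_of_dvd inf_le_left (by rw [e, hyc]))) hnc
  -- non-central elements of the two kinds of primes
  have htrans : ∀ {t : ℕ}, t.Prime → ∀ {f₀ : G} {j : ℕ}, f₀ ∈ H → orderOf f₀ = t ^ j →
      ¬ H ≤ cent f₀ → ∀ {f : G} {s i : ℕ}, f ∈ H → s.Prime → orderOf f = s ^ i → ¬ H ≤ cent f →
      ∃ (u : G) (k : ℕ), u ∈ H ⊓ cent f ∧ orderOf u = t ^ k ∧ ¬ H ≤ cent u := by
    intro t ht f₀ j hf₀ hof₀ hnc₀ f s i hf hs hof hnc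
    by_contra hno
    push Not at hno
    have : Fact t.Prime := ⟨ht⟩
    obtain ⟨P⟩ := (inferInstance : Nonempty (Sylow t (H ⊓ cent f : Subgroup G)))
    set Q := (P : Subgroup (H ⊓ cent f : Subgroup G)).map (H ⊓ cent f).subtype
    have hQ : Q ≤ (H ⊓ cent f) ⊓ (H ⊓ cent f₀) := by
      intro u hu
      have hu' := Subgroup.map_subtype_le _ hu
      obtain ⟨k, hk⟩ := (P.isPGroup'.map (H ⊓ cent f).subtype) ⟨u, hu⟩
      obtain ⟨k', -, hk'⟩ := (Nat.dvd_prime_pow ht).mp
        (orderOf_dvd_of_pow_eq_one (congrArg Subtype.val hk : u ^ t ^ k = 1))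
      exact ⟨hu', hu'.1, mem_cent_comm.mp (hno u k' hu' hk' hf₀)⟩
    have hmem : f₀ ∈ (H ⊓ cent f) ⊓ (H ⊓ cent f₀) := by
      refine mem_of_central_of_full inf_le_right ht (y := f₀) ⟨hf₀, self_mem_cent f₀⟩ hof₀
        inf_le_right (le_trans ?_ (factorization_card_le hQ t))
      rw [Subgroup.card_map_of_injective (H ⊓ cent f).subtype_injective, P.card_eq_multiplicity,
        hcardT hf₀ ht hof₀ hnc₀, hcardT hf hs hof hnc, ht.factorization_pow, Finsupp.single_eq_same]
    exact hnc₀ (hno f₀ j hmem.1 hof₀)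
  have hxH : x ∈ H := mem_cent.mpr hxy
  have hxnc : ¬ H ≤ cent x := fun hle =>
    h.hcb (hyc ▸ hxb ▸ Subgroup.card_dvd_of_le hle)
  obtain ⟨f₀, j₀, hf₀, hof₀, hnc₀⟩ : ∃ (f : G) (k : ℕ), f ∈ H ∧ orderOf f = r ^ k ∧ ¬ H ≤ cent f := by
    by_contra hno
    push Not at hno
    have : Fact r.Prime := ⟨hr⟩
    obtain ⟨P⟩ := (inferInstance : Nonempty (Sylow r H))
    have hQ : (P : Subgroup H).map H.subtype ≤ H ⊓ cent x := by
      intro u hu
      have hu' := Subgroup.map_subtype_le _ hu
      obtain ⟨k, hk⟩ := (P.isPGroup'.map H.subtype) ⟨u, hu⟩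
      obtain ⟨k', -, hk'⟩ := (Nat.dvd_prime_pow hr).mp
        (orderOf_dvd_of_pow_eq_one (congrArg Subtype.val hk : u ^ r ^ k = 1))
      exact ⟨hu', mem_cent_comm.mp (hno u k' hu' hk' hxH)⟩
    have h0 := factorization_card_le hQ r
    rw [Subgroup.card_map_of_injective H.subtype_injective, P.card_eq_multiplicity,
      hcardT hxH hp (i := 1) (by rw [ox, pow_one]) hxnc, hr.factorization_pow,
      Finsupp.single_eq_same, hyc] at h0
    omega
  -- elements of coprime order are central in the intersections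
  have hcentral : ∀ {f w : G}, f ∈ H → cent w = H → w ≠ 1 → (orderOf f).Coprime (orderOf w) →
      Nat.card (H ⊓ cent f : Subgroup G) = a → ∀ u ∈ H ⊓ cent f,
      (orderOf f * orderOf w).Coprime (orderOf u) → H ⊓ cent f ≤ cent u := by
    intro f w hf hw hw1 hfw hT u hu hco'
    have hc := hinf hf hw hfw
    have hfwc : Commute f w := mem_cent.mp (hw.symm ▸ hf : f ∈ cent w)
    have hne : f * w ≠ 1 := fun e => mul_ne_one_of_coprime hw1 hfw.symm
      (by rw [hfwc.eq] at e; exact e)
    rw [← hc]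
    exact central_of_min hne (h.minC (by rw [hc]; exact hT)) (hc.symm ▸ hu)
      (by rwa [hfwc.orderOf_mul_eq_mul_orderOf_of_coprime hfw])
  have hqne : ∀ {f : G} {s i : ℕ}, s.Prime → orderOf f = s ^ i → s ≠ q →
      (orderOf f).Coprime (orderOf y) := fun hs hof hsq => by
    rw [hof, oy]; exact ((Nat.coprime_primes hs hq).mpr hsq).pow_left _
  have hrne : ∀ {f : G} {s i : ℕ}, s.Prime → orderOf f = s ^ i → s ≠ r →
      (orderOf f).Coprime (orderOf z) := fun hs hof hsr => by
    rw [hof, oz]; exact ((Nat.coprime_primes hs hr).mpr hsr).pow_left _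
  have hpp : ∀ {s t i j : ℕ}, s.Prime → t.Prime → s ≠ t → (s ^ i).Coprime (t ^ j) :=
    fun hs ht hst => ((Nat.coprime_primes hs ht).mpr hst).pow _ _
  -- centralisers of non-central `p`-elements are abelian
  have habel : ∀ {x' : G} {j : ℕ}, x' ∈ H → orderOf x' = p ^ j → ¬ H ≤ cent x' →
      ∀ u ∈ H ⊓ cent x', H ⊓ cent x' ≤ cent u := by
    intro x' j hx' hox' hnc'
    obtain ⟨f, k, hf, hof, hncf⟩ := htrans hr hf₀ hof₀ hnc₀ hx' hp hox' hnc'
    have hTf := hcardT hf.1 hr hof hncf
    have hTx := hcardT hx' hp hox' hnc'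
    have hle : H ⊓ cent f ≤ cent x' :=
      hcentral hf.1 rfl hy1 (hqne hr hof hrq) hTf x' ⟨hx', mem_cent_comm.mp hf.2⟩
        (by rw [hof, oy, hox']
            exact (hpp hr hp hrp).mul_left
              (((Nat.coprime_primes hq hp).mpr hpq.symm).pow_right j))
    have hTT : H ⊓ cent f = H ⊓ cent x' := eq_of_le_of_dvd (le_inf inf_le_left hle)
      (by rw [hTf, hTx])
    intro u hu v hv
    refine mem_cent_comm.mp ?_
    refine mem_of_parts (cent v) u fun l s i hs hol => mem_cent_comm.mp ?_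
    have hul := (H ⊓ cent x').pow_mem hu l
    by_cases hsr : s = r
    · subst hsr
      refine hcentral hx' rfl hy1 (hqne hp hox' hpq) hTx _ hul ?_ hv
      rw [hox', oy, hol]
      exact (hpp hp hr hrp.symm).mul_left (((Nat.coprime_primes hq hr).mpr hrq.symm).pow_right i)
    · by_cases hsq : s = q
      · subst hsq
        refine hcentral hx' hzH' hz1 (hrne hp hox' hrp.symm) hTx _ hul ?_ hv
        rw [hox', oz, hol]
        exact (hpp hp hs hpq).mul_left (((Nat.coprime_primes hr hs).mpr hrq).pow_right i)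
      · refine hcentral hf.1 rfl hy1 (hqne hr hof hrq) hTf _ (hTT.symm ▸ hul) ?_ (hTT.symm ▸ hv)
        rw [hof, oy, hol]
        exact (hpp hr hs (Ne.symm hsr)).mul_left
          (((Nat.coprime_primes hq hs).mpr (Ne.symm hsq)).pow_right i)
  have habel' : ∀ {f : G} {s i : ℕ}, f ∈ H → s.Prime → orderOf f = s ^ i → ¬ H ≤ cent f →
      ∀ u ∈ H ⊓ cent f, H ⊓ cent f ≤ cent u := by
    intro f s i hf hs hof hnc
    by_cases hsp : s = p
    · subst hsp; exact habel hf hof hnc
    obtain ⟨x', j, hx', hox', hnc'⟩ := htrans hp hxH (j := 1) (by rw [ox, pow_one]) hxnc hf hs hof hnc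
    obtain ⟨w, hw, hw1, hfw, hxw⟩ := hpartner hs hof
    have hT := hcardT hf hs hof hnc
    have hle : H ⊓ cent f ≤ cent x' := by
      refine hcentral hf hw hw1 hfw hT x' hx' ?_
      rw [hof, hox']
      refine (hpp hs hp hsp).mul_left ?_
      rw [ox] at hxw
      exact hxw.symm.pow_right j
    have hTT : H ⊓ cent f = H ⊓ cent x' := eq_of_le_of_dvd (le_inf inf_le_left hle)
      (by rw [hT, hcardT hx'.1 hp hox' hnc'])
    rw [hTT]
    exact habel hx'.1 hox' hnc'
  -- two class sizes in `H`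
  have hsizes : ∀ g ∈ H, ¬ H ≤ cent g → Nat.card (H ⊓ cent g : Subgroup G) = a := by
    intro g hg hnc
    have hnot : ¬ ∀ l s i : ℕ, s.Prime → orderOf (g ^ l) = s ^ i → H ≤ cent (g ^ l) := by
      intro hall
      exact hnc fun v hv => mem_cent_comm.mp
        (mem_of_parts (cent v) g fun l s i hs hol => mem_cent_comm.mp (hall l s i hs hol hv))
    push Not at hnot
    obtain ⟨l, s, i, hs, hol, hncl⟩ := hnot
    have hgl := H.pow_mem hg l
    have he : H ⊓ cent g = H ⊓ cent (g ^ l) := le_antisymm (inf_le_inf le_rfl (cent_le_pow g l))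
      (le_inf inf_le_left (habel' hgl hs hol hncl g
        ⟨hg, mem_cent.mpr ((Commute.refl g).pow_right l)⟩))
    rw [he]
    exact hcardT hgl hs hol hncl
  set N := c / a with hN
  have hNa : a * N = c := Nat.mul_div_cancel' h.hac
  have hN1 : 1 < N := by
    rcases Nat.lt_or_ge 1 N with hh | hh
    · exact hh
    · have hN01 : N = 0 ∨ N = 1 := Nat.le_one_iff_eq_zero_or_eq_one.mp hh
      rcases hN01 with e | e <;> rw [e] at hNa
      · rw [Nat.mul_zero] at hNa; exact absurd hNa.symm hc0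
      · rw [Nat.mul_one] at hNa; subst hNa; exact absurd hlt (lt_irrefl _)
  have hidx : ∀ g : H, Nat.card (cent g) = Nat.card (H ⊓ cent (g : G) : Subgroup G) := fun g =>
    Nat.card_congr
      { toFun := fun u => ⟨((u : H) : G), (u : H).2,
          mem_cent.mpr (congrArg Subtype.val (mem_cent.mp u.2).eq)⟩
        invFun := fun u => ⟨⟨(u : G), u.2.1⟩, mem_cent.mpr (Subtype.ext (mem_cent.mp u.2.2).eq)⟩
        left_inv := fun _ => rfl
        right_inv := fun _ => rfl }
  have hval : ∀ g : H, (cent g).index = 1 ∨ (cent g).index = N := by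
    intro g
    have hmul := Subgroup.card_mul_index (cent g)
    rw [hidx g, hyc] at hmul
    by_cases hg : H ≤ cent (g : G)
    · left
      rw [inf_eq_left.mpr hg, hyc] at hmul
      exact Nat.mul_left_cancel (Nat.pos_of_ne_zero hc0) (hmul.trans (Nat.mul_one c).symm)
    · right
      rw [hsizes g g.2 hg] at hmul
      exact Nat.mul_left_cancel (Nat.pos_of_ne_zero ha0) (hmul.trans hNa.symm)
  have hex : ∃ g : H, (cent g).index = N := by
    refine ⟨⟨x, hxH⟩, ?_⟩
    have hmul := Subgroup.card_mul_index (cent (⟨x, hxH⟩ : H))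
    rw [hidx, hyc, hsizes x hxH hxnc] at hmul
    exact Nat.mul_left_cancel (Nat.pos_of_ne_zero ha0) (hmul.trans hNa.symm)
  obtain ⟨s₀, hs₀, -, -, hP⟩ := Cfsg.Agent.S4134.result N hN1 hval hex
  obtain ⟨P⟩ := (inferInstance : Nonempty (Sylow s₀ H))
  obtain ⟨hPn, ⟨M, hMn, hMc, hMab, hMP⟩, -⟩ := hP P
  -- elements of order prime to `s₀` are central
  have hcen : ∀ (g : G) (s i : ℕ), g ∈ H → s.Prime → orderOf g = s ^ i → s ≠ s₀ → H ≤ cent g := by
    intro g s i hg hs hog hne
    have hgM : (⟨g, hg⟩ : H) ∈ M := by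
      rw [← QuotientGroup.eq_one_iff, ← orderOf_eq_one_iff]
      refine Nat.eq_one_of_dvd_coprimes (hpp (i := i) (j := (Nat.card H).factorization s₀) hs hs₀.out hne) ?_ ?_
      · rw [← hog, ← Subgroup.orderOf_mk g hg]
        exact orderOf_map_dvd (QuotientGroup.mk' M) _
      · rw [← P.card_eq_multiplicity, ← (Subgroup.IsComplement'.symm hMc).index_eq_card, Subgroup.index_eq_card]
        exact orderOf_dvd_natCard _
    intro v hv
    obtain ⟨⟨⟨m, hm⟩, ⟨u, hu⟩⟩, he⟩ := (hMc.existsUnique ⟨v, hv⟩).exists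
    have h1 : Commute (⟨g, hg⟩ : H) m := congrArg Subtype.val (hMab.is_comm.comm ⟨_, hgM⟩ ⟨m, hm⟩)
    have h2 : Commute (⟨g, hg⟩ : H) u := hMP _ hgM u hu
    have h3 := (h1.mul_right h2).symm
    simp only at he
    rw [he] at h3
    exact mem_cent.mpr (congrArg Subtype.val h3.eq)
  have e1 : r = s₀ := by_contra fun hne => hnc₀ (hcen f₀ r j₀ hf₀ hr hof₀ hne)
  have e2 : p = s₀ := by_contra fun hne => hxnc (hcen x p 1 hxH hp (by rw [ox, pow_one]) hne)
  exact hrp (e1.trans e2.symm)

/-- A value below two incomparable ones forces solvability. -/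
theorem Below.isSolvable {a b c : ℕ} (h : Below G a b c) (hZ : Subgroup.center G = ⊥) {w x₀ y₀ : G}
    (hw : w ≠ 1) (hwa : n[w] = a) (hx₀ : n[x₀] = b) (hy₀ : n[y₀] = c) : Group.IsSolvable G := by
  obtain ⟨x, y, p, q, hp, hq, hpq, ox, oy, hxb, hyc, hxy⟩ := h.exists_pair hw hwa hx₀ hy₀
  have hlcm := h.lcm_eq hxb hyc
  have honly : ∀ r, r.Prime → r ∣ Nat.card G → r = p ∨ r = q := by
    intro r hr hdvd
    by_contra hne
    push Not at hne
    have h1 := h.part_le hp hq hpq ox oy hxb hyc hxy hr hne.1 hne.2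
    have h2 := h.symm.part_le hq hp hpq.symm oy ox hyc hxb hxy.symm hr hne.2 hne.1
    refine false_of_full hZ hr hdvd h.dvd ?_
    rw [← hlcm, Nat.factorization_lcm (hxb ▸ Nat.card_pos.ne') (hyc ▸ Nat.card_pos.ne'),
      Finsupp.sup_apply]
    exact sup_le h2 h1
  set i := (Nat.card G).factorization p
  have hm0 : Nat.card G / p ^ i ≠ 0 := (Nat.ordCompl_pos p Nat.card_pos.ne').ne'
  have hm : ∀ {d : ℕ}, d.Prime → d ∣ Nat.card G / p ^ i → d = q := by
    intro d hd hdm
    rcases honly d hd (hdm.trans (Nat.ordCompl_dvd _ p)) with rfl | e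
    · exact absurd hdm (Nat.not_dvd_ordCompl hd Nat.card_pos.ne')
    · exact e
  have hmq := Nat.eq_prime_pow_of_unique_prime_dvd hm0 hm
  exact CfsgLib.Char.burnside_pq p q hp hq i _ G
    (by rw [← hmq]; exact (Nat.ordProj_mul_ordCompl_eq_self _ p).symm)

end CfsgLib.InvChar.ConjRank
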