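import Cfsg.Agent.Lib.InvChar.ConjRank.RankThree
import Cfsg.Agent.Lib.Invol.CTClassify
import Cfsg.Agent.S2202

/-!
# Simple groups in which no centraliser order properly divides another

The involution centralisers are abelian, so the group is `PSL2` over a field of characteristic two.
-/

set_option autoImplicit false

namespace CfsgLib.InvChar.ConjRank

universe u

variable {G : Type u} [Group G] [Finite G]

theorem exists_invol_power {u : G} (hu : u ≠ 1) {n : ℕ} (hn : u ^ 2 ^ n = 1) :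
    ∃ k, orderOf (u ^ k) = 2 := by
  obtain ⟨j, hj, hj'⟩ := (Nat.dvd_prime_pow Nat.prime_two).mp (orderOf_dvd_of_pow_eq_one hn)
  obtain ⟨i, rfl⟩ : ∃ i, j = i + 1 := by
    refine ⟨j - 1, ?_⟩
    rcases Nat.eq_zero_or_pos j with rfl | h
    · exact absurd (orderOf_eq_one_iff.mp (by simpa using hj')) hu
    · omega
  exact ⟨orderOf u / 2, orderOf_pow_orderOf_div (orderOf_pos u).ne'
    (hj' ▸ dvd_pow_self 2 (Nat.succ_ne_zero i))⟩

/-- If all elements are minimal, Sylow 2-subgroups are abelian. -/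
theorem sylow_two_commute (hmin : ∀ z : G, z ≠ 1 → MinC z) (S : Sylow 2 G) {a b : G}
    (ha : a ∈ (S : Subgroup G)) (hb : b ∈ (S : Subgroup G)) : Commute a b := by
  have : Fact (Nat.Prime 2) := ⟨Nat.prime_two⟩
  set T := (S : Subgroup G)
  have hmid : ∀ u ∈ T, u ≠ 1 → ∃ k, orderOf (u ^ k) = 2 ∧ cent u = cent (u ^ k) := by
    intro u hu hu1
    obtain ⟨n, hn⟩ := S.isPGroup' ⟨u, hu⟩
    obtain ⟨k, hk⟩ := exists_invol_power hu1 (n := n) (congrArg Subtype.val hn)
    have hk1 : u ^ k ≠ 1 := fun e => by rw [e, orderOf_one] at hk; norm_num at hk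
    exact ⟨k, hk, (hmin _ hk1).eq_of_le hu1 (cent_le_pow u k)⟩
  suffices hcen : Subgroup.center T = ⊤ by
    have h := Subgroup.mem_center_iff.mp (hcen ▸ Subgroup.mem_top (⟨b, hb⟩ : T)) ⟨a, ha⟩
    exact congrArg Subtype.val h
  by_contra hne
  have : Nontrivial (T ⧸ Subgroup.center T) := QuotientGroup.nontrivial_iff.mpr hne
  have hq : IsPGroup 2 (T ⧸ Subgroup.center T) := S.isPGroup'.to_quotient _
  have hc := hq.center_nontrivial
  obtain ⟨j, hj⟩ := IsPGroup.iff_card.mp (hq.to_subgroup (Subgroup.center _))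
  have hj0 : j ≠ 0 := by
    intro e
    rw [e, pow_zero] at hj
    have := Finite.one_lt_card_iff_nontrivial.mpr hc
    omega
  obtain ⟨q, hq2⟩ := exists_prime_orderOf_dvd_card' (G := Subgroup.center (T ⧸ Subgroup.center T)) 2
    (hj ▸ dvd_pow_self 2 hj0)
  obtain ⟨⟨g, hgT⟩, hg⟩ := QuotientGroup.mk_surjective (q : T ⧸ Subgroup.center T)
  have hgnc : (⟨g, hgT⟩ : T) ∉ Subgroup.center T := by
    intro h
    rw [← QuotientGroup.eq_one_iff, hg, OneMemClass.coe_eq_one] at h
    rw [h, orderOf_one] at hq2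
    norm_num at hq2
  have hsq : (⟨g, hgT⟩ : T) ^ 2 ∈ Subgroup.center T := by
    rw [← QuotientGroup.eq_one_iff, QuotientGroup.mk_pow, hg]
    have := congrArg Subtype.val (pow_orderOf_eq_one q)
    rwa [hq2] at this
  have hg1 : g ≠ 1 := fun e => hgnc (by
    have e' : (⟨g, hgT⟩ : T) = 1 := Subtype.ext e
    rw [e']; exact one_mem _)
  have hnc : ∃ h ∈ T, ¬ Commute g h := by
    by_contra hno
    push Not at hno
    exact hgnc (Subgroup.mem_center_iff.mpr fun v => Subtype.ext (hno v v.2).eq.symm)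
  obtain ⟨h, hh, hgh⟩ := hnc
  have hzc : ∀ v ∈ T, Commute (g ^ 2) v := fun v hv =>
    (congrArg Subtype.val (Subgroup.mem_center_iff.mp hsq ⟨v, hv⟩)).symm
  have hg2 : g ^ 2 = 1 := by
    by_contra h2
    obtain ⟨k, hk, he⟩ := hmid g hgT hg1
    have hev : 2 ∣ k := by
      by_contra hodd
      rw [orderOf_pow] at hk
      obtain ⟨n, hn⟩ := S.isPGroup' ⟨g, hgT⟩
      obtain ⟨e, -, he'⟩ := (Nat.dvd_prime_pow Nat.prime_two).mp
        (orderOf_dvd_of_pow_eq_one (congrArg Subtype.val hn : g ^ 2 ^ n = 1))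
      rw [he', Nat.Coprime.gcd_eq_one
        ((Nat.prime_two.coprime_iff_not_dvd.mpr hodd).pow_left e), Nat.div_one] at hk
      exact h2 (by rw [← orderOf_dvd_iff_pow_eq_one, he', hk])
    obtain ⟨l, rfl⟩ := hev
    refine hgh (mem_cent.mp (he.symm.le (mem_cent.mpr ?_) : h ∈ cent g)).symm
    rw [pow_mul]
    exact ((hzc h hh).pow_left l).symm
  obtain ⟨k, hk, he⟩ := hmid h hh fun e => hgh (e ▸ Commute.one_right g)
  set i := h ^ k with hi
  have hiT : i ∈ T := T.pow_mem hh k
  have hgi : ¬ Commute g i := fun hc' =>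
    hgh (mem_cent.mp (he.symm.le (mem_cent.mpr hc') : g ∈ cent h))
  have hii : i * i = 1 := by rw [← sq, ← hk, pow_orderOf_eq_one]
  have hgg : g * g = 1 := by rw [← sq, hg2]
  -- `c = (gi)²` is central and has order two
  set c := g * i * (g * i) with hc'
  have hcT : c ∈ T := T.mul_mem (T.mul_mem hgT hiT) (T.mul_mem hgT hiT)
  have hccen : ∀ v ∈ T, Commute c v := by
    intro v hv
    have h1 : ((⟨c, hcT⟩ : T) : T ⧸ Subgroup.center T) = 1 := by
      have e : (⟨c, hcT⟩ : T) = ⟨g, hgT⟩ * ⟨i, hiT⟩ * (⟨g, hgT⟩ * ⟨i, hiT⟩) := rfl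
      have hgc : ∀ w : T ⧸ Subgroup.center T,
          ((⟨g, hgT⟩ : T) : T ⧸ Subgroup.center T) * w = w * ((⟨g, hgT⟩ : T) : T ⧸ Subgroup.center T) :=
        fun w => by rw [hg]; exact (Subgroup.mem_center_iff.mp q.2 w).symm
      rw [e, QuotientGroup.mk_mul, QuotientGroup.mk_mul]
      conv_lhs => arg 2; rw [hgc]
      rw [mul_assoc, ← mul_assoc (((⟨i, hiT⟩ : T) : T ⧸ Subgroup.center T)), ← QuotientGroup.mk_mul,
        show (⟨i, hiT⟩ : T) * ⟨i, hiT⟩ = 1 from Subtype.ext hii, QuotientGroup.mk_one, one_mul,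
        ← QuotientGroup.mk_mul, show (⟨g, hgT⟩ : T) * ⟨g, hgT⟩ = 1 from Subtype.ext hgg,
        QuotientGroup.mk_one]
    have h2 := Subgroup.mem_center_iff.mp ((QuotientGroup.eq_one_iff _).mp h1) ⟨v, hv⟩
    exact (congrArg Subtype.val h2 : _).symm
  have hc1 : c ≠ 1 := by
    intro e
    refine hgi ?_
    calc g * i = g * i * ((g * i * (g * i)) * (g * i)⁻¹ * (g * i)⁻¹) := by group
      _ = g * i * ((g * i)⁻¹ * (g * i)⁻¹) := by rw [← hc', e]; group
      _ = i⁻¹ * g⁻¹ := by group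
      _ = i * g := by rw [inv_eq_of_mul_eq_one_right hii, inv_eq_of_mul_eq_one_right hgg]
  have hgi1 : g * i ≠ 1 := fun e => hc1 (by rw [hc', e, one_mul])
  have hce : cent (g * i) = cent c :=
    (hmin c hc1).eq_of_le hgi1 fun w hw => mem_cent.mpr ((mem_cent.mp hw).mul_right (mem_cent.mp hw))
  have h3 : Commute g (g * i) := mem_cent.mp (hce.symm.le (mem_cent.mpr (hccen g hgT).symm))
  refine hgi ?_
  have h4 := h3.eq
  rw [mul_assoc g i g] at h4
  exact mul_left_cancel h4

/-- If all elements are minimal, involutions have abelian centralisers. -/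
theorem invol_cent_commutative (hmin : ∀ z : G, z ≠ 1 → MinC z) {t : G} (ht : orderOf t = 2) :
    IsMulCommutative (cent t) := by
  have : Fact (Nat.Prime 2) := ⟨Nat.prime_two⟩
  have ht1 : t ≠ 1 := fun e => by rw [e, orderOf_one] at ht; norm_num at ht
  have hn := isNilpotent_of_min Nat.prime_two ht (hmin t ht1)
  have hodd : ∀ u ∈ cent t, ∃ k, cent t ≤ cent (u ^ 2 ^ k) := fun u hu => by
    obtain ⟨k, hk⟩ := exists_pow_coprime u Nat.prime_two
    exact ⟨k, central_of_min ht1 (hmin t ht1) ((cent t).pow_mem hu _) (by rwa [ht])⟩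
  obtain ⟨P⟩ := (inferInstance : Nonempty (Sylow 2 (cent t)))
  have hPn : (P : Subgroup (cent t)).Normal :=
    P.normal_of_normalizerCondition (normalizerCondition_of_isNilpotent (h := hn))
  obtain ⟨S, hS⟩ := (P.isPGroup'.map (cent t).subtype).exists_le_sylow
  refine ⟨⟨fun a b => Subtype.ext ?_⟩⟩
  have hPab : ∀ x y : cent t, x ∈ (P : Subgroup (cent t)) → y ∈ (P : Subgroup (cent t)) →
      Commute (x : G) (y : G) := fun x y hx hy =>
    sylow_two_commute hmin S (hS (Subgroup.mem_map_of_mem _ hx)) (hS (Subgroup.mem_map_of_mem _ hy))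
  have hindex : ¬ 2 ∣ (P : Subgroup (cent t)).index := P.not_dvd_index
  have hidx : ∀ x : cent t, x ^ (P : Subgroup (cent t)).index ∈ (P : Subgroup (cent t)) := fun x =>
    Subgroup.pow_index_mem _ x
  have hkey : (b : G) ∈ cent (a : G) := by
    obtain ⟨k, hk⟩ := hodd b b.2
    refine mem_of_pow_coprime _ (i := 2 ^ k) (j := (P : Subgroup (cent t)).index)
      (Nat.Coprime.pow_left _ (Nat.prime_two.coprime_iff_not_dvd.mpr hindex))
      (mem_cent_comm.mp (hk a.2)) ?_
    refine mem_cent_comm.mp ?_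
    obtain ⟨l, hl⟩ := hodd a a.2
    refine mem_of_pow_coprime _ (i := 2 ^ l) (j := (P : Subgroup (cent t)).index)
      (Nat.Coprime.pow_left _ (Nat.prime_two.coprime_iff_not_dvd.mpr hindex)) ?_ ?_
    · exact mem_cent_comm.mp (hl ((cent t).pow_mem b.2 _))
    · exact mem_cent.mpr (by simpa using hPab _ _ (hidx a) (hidx b))
  exact (mem_cent.mp hkey).symm.eq

/-- A simple group with three centraliser orders is `PSL2` over a field of characteristic two. -/
theorem exists_psl_of_three [IsSimpleGroup G] (hG : ¬ IsMulCommutative G)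
    (h3 : {v : ℕ | ∃ x : G, x ≠ 1 ∧ Nat.card (cent x) = v}.ncard = 3) :
    ∃ (F : Type) (_ : Field F) (_ : Fintype F) (f : ℕ), 2 ≤ f ∧ Fintype.card F = 2 ^ f ∧
      Nonempty (G ≃* Matrix.ProjectiveSpecialLinearGroup (Fin 2) F) := by
  classical
  have hmin := minC_of_three hG h3
  have heven := even_of_min hG hmin
  have hct := fun t (ht : orderOf t = 2) => invol_cent_commutative hmin ht
  rcases Cfsg.Agent.S2202.result heven hct with hcyc | hnor | ⟨F, hF, hFF, A, hA, hAF, h2, -, ⟨e⟩⟩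
  · have : Fact (Nat.Prime 2) := ⟨Nat.prime_two⟩
    obtain ⟨T⟩ := (inferInstance : Nonempty (Sylow 2 G))
    obtain ⟨H, hH⟩ := Cfsg.Agent.S0219.result heven T (hcyc T)
    rcases (Subgroup.normal_of_index_eq_two hH).eq_bot_or_eq_top with rfl | rfl
    · rw [Subgroup.index_bot] at hH
      exact absurd (have : IsCyclic G := isCyclic_of_prime_card (p := 2) hH
        IsCyclic.isMulCommutative) hG
    · rw [Subgroup.index_top] at hH; norm_num at hH
  · have : Fact (Nat.Prime 2) := ⟨Nat.prime_two⟩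
    obtain ⟨T⟩ := (inferInstance : Nonempty (Sylow 2 G))
    rcases (hnor T).eq_bot_or_eq_top with hb | ht
    · have hd := T.dvd_card_of_dvd_card (even_iff_two_dvd.mp heven)
      rw [hb, Subgroup.card_bot] at hd
      norm_num at hd
    · have hp : IsPGroup 2 G := fun g => by
        obtain ⟨k, hk⟩ := T.isPGroup' ⟨g, by rw [ht]; exact Subgroup.mem_top g⟩
        exact ⟨k, congrArg Subtype.val hk⟩
      have := hp.isNilpotent
      exact absurd ⟨⟨IsSimpleGroup.comm_iff_isSolvable.2 inferInstance⟩⟩ hG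
  · refine CfsgLib.Invol.ct_exists_psl hG fun x a b hx hax hbx => ?_
    let f : G →* Matrix.ProjectiveSpecialLinearGroup (Fin 2) F :=
      (QuotientGroup.mk' _).comp ((MonoidHom.fst _ _).comp e.toMonoidHom)
    let s : G →* A := (MonoidHom.snd _ _).comp e.toMonoidHom
    have hs : s.ker = ⊤ := ((MonoidHom.normal_ker s).eq_bot_or_eq_top).resolve_left fun h =>
      hG ⟨⟨fun u v => (MonoidHom.ker_eq_bot_iff s).mp h (by rw [map_mul, map_mul, mul_comm])⟩⟩
    have hf : f.ker = ⊥ := ((MonoidHom.normal_ker f).eq_bot_or_eq_top).resolve_right fun h =>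
      hG ⟨⟨fun u v => e.injective (Prod.ext ?_ ?_)⟩⟩
    · have h20 : (2 : F) = 0 := CharP.cast_eq_zero F 2
      have := CfsgLib.Invol.psl_two_ca h20 (f x) (f a) (f b)
        (fun h => hx ((MonoidHom.ker_eq_bot_iff f).mp hf (h.trans (map_one f).symm)))
        (hax.map f) (hbx.map f)
      exact (MonoidHom.ker_eq_bot_iff f).mp hf (by rw [map_mul, map_mul]; exact this.eq)
    · have hu : (e u).1 ∈ Subgroup.center (Matrix.SpecialLinearGroup (Fin 2) F) :=
        (QuotientGroup.eq_one_iff _).mp (MonoidHom.mem_ker.mp (h ▸ Subgroup.mem_top u) : f u = 1)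
      rw [map_mul, map_mul, Prod.fst_mul, Prod.fst_mul]
      exact (Subgroup.mem_center_iff.mp hu _).symm
    · have hu : s u = 1 := MonoidHom.mem_ker.mp (hs ▸ Subgroup.mem_top u)
      have hv : s v = 1 := MonoidHom.mem_ker.mp (hs ▸ Subgroup.mem_top v)
      show s (u * v) = s (v * u)
      rw [map_mul, map_mul, hu, hv]

end CfsgLib.InvChar.ConjRank
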