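import Cfsg.Agent.Lib.InvChar.ConjRank.BelowBoth
import Cfsg.Agent.Lib.InvChar.ConjRank.ApartFinish
import Cfsg.Agent.Lib.InvChar.ConjRank.Even
import Cfsg.Agent.Lib.Geom.DicksonPSL
import Cfsg.Agent.S0205

/-!
# At most three centraliser orders and trivial centre

An insoluble group of this kind has no centraliser order properly dividing another, and so is
`PSL2` over a field of characteristic two.
-/

set_option autoImplicit false

namespace CfsgLib.InvChar.ConjRank

universe u

variable {G : Type u} [Group G] [Finite G]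

local notation "n[" x "]" => Nat.card (cent x)

/-- In an insoluble group with trivial centre and at most three centraliser orders of non-identity
elements, no one of them properly divides another. -/
theorem minC_of_centreFree (hZ : Subgroup.center G = ⊥) (hns : ¬ Group.IsSolvable G)
    (h3 : {v : ℕ | ∃ x : G, x ≠ 1 ∧ n[x] = v}.ncard ≤ 3) (z : G) (hz : z ≠ 1) : MinC z := by
  classical
  intro w hw hd
  by_contra hne
  set V := {v : ℕ | ∃ x : G, x ≠ 1 ∧ n[x] = v}
  have hfin : V.Finite := by
    refine (Set.finite_Iic (Nat.card G)).subset ?_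
    rintro _ ⟨x, -, rfl⟩
    exact Nat.le_of_dvd Nat.card_pos (Subgroup.card_subgroup_dvd_card _)
  obtain ⟨y, hy, hya, hyb⟩ : ∃ y : G, y ≠ 1 ∧ n[y] ≠ n[w] ∧ n[y] ≠ n[z] := by
    by_contra hno
    push Not at hno
    have hV : ∀ x : G, x ≠ 1 → n[x] = n[w] ∨ n[x] = n[z] ∨ n[x] = n[z] := fun x hx => by
      by_cases h : n[x] = n[w]
      · exact Or.inl h
      · exact Or.inr (Or.inl (hno x hx h))
    have hlcm := dvd_lcm_of_values hd hV
    rw [Nat.lcm_self] at hlcm
    exact card_cent_ne_card_of_center hZ hz
      (Nat.dvd_antisymm (Subgroup.card_subgroup_dvd_card _) hlcm)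
  have hV : ∀ x : G, x ≠ 1 → n[x] = n[w] ∨ n[x] = n[z] ∨ n[x] = n[y] := by
    intro x hx
    by_contra hno
    push Not at hno
    have hsub : ({n[w], n[z], n[y], n[x]} : Finset ℕ) ⊆ hfin.toFinset := by
      intro v hv
      simp only [Finset.mem_insert, Finset.mem_singleton] at hv
      rcases hv with rfl | rfl | rfl | rfl
      exacts [hfin.mem_toFinset.mpr ⟨w, hw, rfl⟩, hfin.mem_toFinset.mpr ⟨z, hz, rfl⟩,
        hfin.mem_toFinset.mpr ⟨y, hy, rfl⟩, hfin.mem_toFinset.mpr ⟨x, hx, rfl⟩]
    have hle := Finset.card_le_card hsub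
    rw [← Set.ncard_eq_toFinset_card V hfin] at hle
    have h4 : ({n[w], n[z], n[y], n[x]} : Finset ℕ).card = 4 := by
      rw [Finset.card_insert_of_notMem, Finset.card_insert_of_notMem, Finset.card_insert_of_notMem,
        Finset.card_singleton]
      · simpa using Ne.symm hno.2.2
      · simpa using ⟨Ne.symm hyb, Ne.symm hno.2.1⟩
      · simpa using ⟨hne, Ne.symm hya, Ne.symm hno.1⟩
    omega
  have hlcm := dvd_lcm_of_values hd hV
  have hbc : ¬ n[z] ∣ n[y] := by
    intro h
    rw [Nat.lcm_eq_right h] at hlcm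
    exact card_cent_ne_card_of_center hZ hy
      (Nat.dvd_antisymm (Subgroup.card_subgroup_dvd_card _) hlcm)
  have hcb : ¬ n[y] ∣ n[z] := by
    intro h
    rw [Nat.lcm_eq_left h] at hlcm
    exact card_cent_ne_card_of_center hZ hz
      (Nat.dvd_antisymm (Subgroup.card_subgroup_dvd_card _) hlcm)
  by_cases hac : n[w] ∣ n[y]
  · exact hns (Below.isSolvable ⟨hV, hd, hac, hbc, hcb⟩ hZ hw rfl rfl rfl)
  · have hap : Apart G n[w] n[z] n[y] := ⟨hV, hd, hne, hbc, hcb, hac⟩
    obtain ⟨C, hC, hcent, hcard, hco⟩ := hap.exists_abelian hns hz rfl hy rfl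
    exact Gen.false ⟨hap, hZ, hns, hC, hcent, hcard, hco,
      by rw [← hco.lcm_eq_mul, hap.lcm_eq rfl rfl], ⟨z, hz, rfl⟩⟩

/-- An insoluble group with trivial centre in which every element is minimal is `PSL2` in
characteristic two. -/
theorem exists_psl_of_minC (hZ : Subgroup.center G = ⊥) (hns : ¬ Group.IsSolvable G)
    (hmin : ∀ z : G, z ≠ 1 → MinC z) :
    ∃ a : ℕ, 0 < a ∧
      Nonempty (G ≃* Matrix.ProjectiveSpecialLinearGroup (Fin 2) (GaloisField 2 a)) := by
  classical
  have : Fact (Nat.Prime 2) := ⟨Nat.prime_two⟩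
  have heven : Even (Nat.card G) := by
    by_contra h
    exact hns (Cfsg.Agent.S0205.result (Nat.not_even_iff_odd.mp h))
  rcases Cfsg.Agent.S2202.result heven (fun t ht => invol_cent_commutative hmin ht) with
    hcyc | hnor | ⟨F, hF, hFF, A, hA, hAF, h2, -, ⟨e⟩⟩
  · exfalso
    obtain ⟨T⟩ := (inferInstance : Nonempty (Sylow 2 G))
    have hmf : (Nat.card G).minFac = 2 := (Nat.minFac_eq_two_iff _).mpr (even_iff_two_dvd.mp heven)
    have hK := IsCyclic.isComplement' hmf (hcyc T)
    set K := (MonoidHom.transferSylow T ((hcyc T).normalizer_le_centralizer hmf)).ker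
    have hodd : Odd (Nat.card K) := by
      rw [← hK.index_eq_card]
      exact Nat.not_even_iff_odd.mp fun h => T.not_dvd_index (even_iff_two_dvd.mp h)
    have := T.isPGroup'.isNilpotent
    refine hns (isSolvable_of_quotient K (Cfsg.Agent.S0205.result hodd) ?_)
    exact Group.isSolvable_of_surjective (G := (T : Subgroup G))
      (f := hK.symm.QuotientMulEquiv.symm.toMonoidHom) hK.symm.QuotientMulEquiv.symm.surjective
  · exfalso
    obtain ⟨T⟩ := (inferInstance : Nonempty (Sylow 2 G))
    have := hnor T
    have := T.isPGroup'.isNilpotent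
    refine hns (isSolvable_of_quotient (T : Subgroup G) inferInstance
      (Cfsg.Agent.S0205.result ?_))
    rw [← Subgroup.index_eq_card]
    exact Nat.not_even_iff_odd.mp fun h => T.not_dvd_index (even_iff_two_dvd.mp h)
  · have hAtriv : ∀ y : A, y = 1 := by
      intro y
      have hmem : e.symm (1, y) ∈ Subgroup.center G := by
        refine Subgroup.mem_center_iff.mpr fun g => e.injective ?_
        rw [map_mul, map_mul, e.apply_symm_apply]
        exact Prod.ext (by simp) (mul_comm _ _)
      rw [hZ, Subgroup.mem_bot] at hmem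
      have := congrArg e hmem
      rw [e.apply_symm_apply, map_one] at this
      exact (Prod.ext_iff.mp this).2
    have : Subsingleton A := ⟨fun u v => (hAtriv u).trans (hAtriv v).symm⟩
    let e₁ : G ≃* Matrix.SpecialLinearGroup (Fin 2) F :=
      e.trans
        { toFun := Prod.fst
          invFun := fun u => (u, 1)
          left_inv := fun u => Prod.ext rfl (Subsingleton.elim _ _)
          right_inv := fun u => rfl
          map_mul' := fun u v => rfl }
    have hcen : Subgroup.center (Matrix.SpecialLinearGroup (Fin 2) F) = ⊥ := by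
      rw [Subgroup.eq_bot_iff_forall]
      intro u hu
      have hmem : e₁.symm u ∈ Subgroup.center G := by
        refine Subgroup.mem_center_iff.mpr fun g => e₁.injective ?_
        rw [map_mul, map_mul, e₁.apply_symm_apply]
        exact Subgroup.mem_center_iff.mp hu _
      rw [hZ, Subgroup.mem_bot] at hmem
      have := congrArg e₁ hmem
      rwa [e₁.apply_symm_apply, map_one] at this
    let e₂ : G ≃* Matrix.ProjectiveSpecialLinearGroup (Fin 2) F :=
      e₁.trans ((QuotientGroup.quotientBot).symm.trans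
        (QuotientGroup.quotientMulEquivOfEq hcen.symm))
    obtain ⟨⟨f, hf⟩, -, hcard⟩ := FiniteField.card F 2
    refine ⟨f, hf, ⟨e₂.trans (CfsgLib.Geom.Moebius.pslCongr ?_)⟩⟩
    refine Classical.choice ?_
    have hcg : Nat.card (GaloisField 2 f) = 2 ^ f := GaloisField.card 2 f hf.ne'
    have := Fintype.ofFinite (GaloisField 2 f)
    exact ⟨FiniteField.ringEquivOfCardEq (by rw [← Nat.card_eq_fintype_card (α := GaloisField 2 f), hcg]; exact hcard)⟩

end CfsgLib.InvChar.ConjRank
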