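import Cfsg.Agent.Lib.InvChar.ConjRank.Basic
import Cfsg.Agent.Lib.Classical.Conic
import Cfsg.Agent.Lib.Invol.CTClassify
import Mathlib.LinearAlgebra.Matrix.SpecialLinearGroup

/-!
# Centraliser orders of SL2 over a finite field of characteristic two
-/

set_option autoImplicit false

namespace CfsgLib.InvChar.ConjRank

open Matrix

variable {F : Type*} [Field F]

local notation "S2" => Matrix.SpecialLinearGroup (Fin 2) F

theorem sl_eq_one_of_scalar (h2 : (2 : F) = 0) {g : S2}
    (h : g.1 0 1 = 0 ∧ g.1 1 0 = 0 ∧ g.1 0 0 = g.1 1 1) : g = 1 := by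
  obtain ⟨h01, h10, h00⟩ := h
  have hdet := g.2
  rw [Matrix.det_fin_two, h01, h10, ← h00] at hdet
  have h1 : g.1 0 0 = 1 := by
    have : (g.1 0 0 - 1) * (g.1 0 0 - 1) = 0 := by
      linear_combination hdet + (1 - g.1 0 0) * h2
    exact sub_eq_zero.1 (mul_self_eq_zero.1 this)
  ext i j
  fin_cases i <;> fin_cases j
  · simpa using h1
  · simpa using h01
  · simpa using h10
  · simpa [← h00] using h1

/-- The matrices commuting with a nonscalar one. -/
theorem exists_coeff_of_commute {A M : Matrix (Fin 2) (Fin 2) F}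
    (hA : ¬ (A 0 1 = 0 ∧ A 1 0 = 0 ∧ A 0 0 = A 1 1)) (h : M * A = A * M) :
    ∃ x y : F, M = x • (1 : Matrix (Fin 2) (Fin 2) F) + y • A := by
  have e := fun i j => congrFun (congrFun h i) j
  simp only [Matrix.mul_apply, Fin.sum_univ_two] at e
  have e00 := e 0 0
  have e01 := e 0 1
  have e10 := e 1 0
  obtain ⟨y, hy1, hy2, hy3⟩ : ∃ y, M 0 1 = y * A 0 1 ∧ M 1 0 = y * A 1 0 ∧
      M 0 0 - M 1 1 = y * (A 0 0 - A 1 1) := by
    by_cases hq : A 0 1 = 0
    · by_cases hr : A 1 0 = 0
      · have hd : A 0 0 - A 1 1 ≠ 0 := sub_ne_zero.2 fun e => hA ⟨hq, hr, e⟩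
        refine ⟨(M 0 0 - M 1 1) / (A 0 0 - A 1 1), ?_, ?_, by field_simp⟩
        · rw [hq, mul_zero]
          refine (mul_eq_zero.1 ?_).resolve_right hd
          rw [hq] at e01; linear_combination -e01
        · rw [hr, mul_zero]
          refine (mul_eq_zero.1 ?_).resolve_right hd
          rw [hr] at e10; linear_combination e10
      · refine ⟨M 1 0 / A 1 0, ?_, by field_simp, ?_⟩
        · field_simp; linear_combination e00
        · field_simp; linear_combination -e10
    · refine ⟨M 0 1 / A 0 1, by field_simp, ?_, ?_⟩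
      · field_simp; linear_combination -e00
      · field_simp; linear_combination e01
  refine ⟨M 0 0 - y * A 0 0, y, ?_⟩
  ext i j
  fin_cases i <;> fin_cases j <;> simp
  · linear_combination hy1
  · linear_combination hy2
  · linear_combination -hy3

/-- The centraliser of a non-identity element is a conic. -/
theorem card_cent_eq_conic (h2 : (2 : F) = 0) {s : S2} (hs : s ≠ 1) :
    Nat.card (cent s) =
      Nat.card {p : F × F // p.1 ^ 2 + (s.1 0 0 + s.1 1 1) * p.1 * p.2 + 1 * p.2 ^ 2 = 1} := by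
  have hA : ¬ (s.1 0 1 = 0 ∧ s.1 1 0 = 0 ∧ s.1 0 0 = s.1 1 1) := fun h =>
    hs (sl_eq_one_of_scalar h2 h)
  have hdet : s.1 0 0 * s.1 1 1 - s.1 0 1 * s.1 1 0 = 1 := by
    rw [← Matrix.det_fin_two]; exact s.2
  have hd : ∀ x y : F, (x • (1 : Matrix (Fin 2) (Fin 2) F) + y • s.1).det =
      x ^ 2 + (s.1 0 0 + s.1 1 1) * x * y + 1 * y ^ 2 := by
    intro x y
    simp [Matrix.det_fin_two]
    linear_combination y ^ 2 * hdet
  have hc : ∀ x y : F, (x • (1 : Matrix (Fin 2) (Fin 2) F) + y • s.1) * s.1 =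
      s.1 * (x • (1 : Matrix (Fin 2) (Fin 2) F) + y • s.1) := by
    intro x y
    rw [Matrix.add_mul, Matrix.mul_add, smul_mul_assoc, one_mul, mul_smul_comm, mul_one,
      smul_mul_assoc, mul_smul_comm]
  refine (Nat.card_congr (Equiv.ofBijective
    (fun p : {p : F × F // p.1 ^ 2 + (s.1 0 0 + s.1 1 1) * p.1 * p.2 + 1 * p.2 ^ 2 = 1} =>
      (⟨⟨p.1.1 • (1 : Matrix (Fin 2) (Fin 2) F) + p.1.2 • s.1, (hd _ _).trans p.2⟩,
        mem_cent.mpr (Subtype.ext (hc p.1.1 p.1.2))⟩ : cent s)) ⟨?_, ?_⟩)).symm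
  · rintro ⟨⟨x, y⟩, hp⟩ ⟨⟨x', y'⟩, hp'⟩ he
    have he' : x • (1 : Matrix (Fin 2) (Fin 2) F) + y • s.1 = x' • 1 + y' • s.1 :=
      congrArg (fun u : cent s => (u : S2).1) he
    have e := fun i j => congrFun (congrFun he' i) j
    have e00 := e 0 0
    have e01 := e 0 1
    have e10 := e 1 0
    have e11 := e 1 1
    simp at e00 e01 e10 e11
    have hy : y = y' := by
      by_contra hne
      refine hA ⟨?_, ?_, ?_⟩
      · exact e01.resolve_left hne
      · exact e10.resolve_left hne
      · exact mul_left_cancel₀ (sub_ne_zero.2 hne) (by linear_combination e00 - e11)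
    subst hy
    refine Subtype.ext (Prod.ext ?_ rfl)
    exact add_right_cancel e00
  · rintro ⟨⟨M, hM⟩, hu⟩
    obtain ⟨x, y, rfl⟩ := exists_coeff_of_commute hA (congrArg Subtype.val (mem_cent.mp hu).eq)
    exact ⟨⟨(x, y), (hd x y).symm.trans hM⟩, rfl⟩

variable [Fintype F]

theorem card_cent_unipotent (h2 : (2 : F) = 0) {s : S2} (hs : s ≠ 1)
    (ht : s.1 0 0 + s.1 1 1 = 0) : Nat.card (cent s) = Fintype.card F := by
  rw [card_cent_eq_conic h2 hs, ← Nat.card_eq_fintype_card (α := F)]
  have hx : ∀ p : {p : F × F // p.1 ^ 2 + (s.1 0 0 + s.1 1 1) * p.1 * p.2 + 1 * p.2 ^ 2 = 1},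
      p.1.1 = 1 + p.1.2 := by
    rintro ⟨⟨x, y⟩, hp⟩
    rw [ht] at hp
    have h : (x + y + 1) * (x + y + 1) = 0 := by
      linear_combination hp + (x * y + x + y + 1) * h2
    linear_combination (mul_self_eq_zero.1 h) - (y + 1) * h2
  refine Nat.card_congr
    { toFun := fun p => p.1.2
      invFun := fun y => ⟨(1 + y, y), by rw [ht]; linear_combination (y + y ^ 2) * h2⟩
      left_inv := fun p => Subtype.ext (Prod.ext (hx p).symm rfl)
      right_inv := fun y => rfl }

theorem card_cent_split (h2 : (2 : F) = 0) {s : S2} (hs : s ≠ 1) {r : F}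
    (ht : s.1 0 0 + s.1 1 1 ≠ 0) (hr : r ^ 2 + (s.1 0 0 + s.1 1 1) * r + 1 = 0) :
    Nat.card (cent s) = Fintype.card F - 1 := by
  classical
  rw [card_cent_eq_conic h2 hs]
  set t := s.1 0 0 + s.1 1 1
  have hmul : ∀ x y : F, (x + r * y) * (x + r * y + t * y) = x ^ 2 + t * x * y + 1 * y ^ 2 := by
    intro x y
    linear_combination y ^ 2 * hr + (r * x * y - y ^ 2) * h2
  rw [← Fintype.card_units, ← Nat.card_eq_fintype_card]
  refine Nat.card_congr
    { toFun := fun p => ⟨p.1.1 + r * p.1.2, p.1.1 + r * p.1.2 + t * p.1.2,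
        (hmul _ _).trans p.2, by rw [mul_comm]; exact (hmul _ _).trans p.2⟩
      invFun := fun u => ⟨((u : F) + r * (((u : F) + (↑u⁻¹ : F)) / t),
        ((u : F) + (↑u⁻¹ : F)) / t), ?_⟩
      left_inv := ?_
      right_inv := ?_ }
  · rw [← hmul]
    have e1 : (u : F) + r * (((u : F) + (↑u⁻¹ : F)) / t) + r * (((u : F) + (↑u⁻¹ : F)) / t) = u := by
      linear_combination (r * (((u : F) + (↑u⁻¹ : F)) / t)) * h2
    show ((u : F) + r * (((u : F) + (↑u⁻¹ : F)) / t) + r * (((u : F) + (↑u⁻¹ : F)) / t)) *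
      ((u : F) + r * (((u : F) + (↑u⁻¹ : F)) / t) + r * (((u : F) + (↑u⁻¹ : F)) / t) +
        t * (((u : F) + (↑u⁻¹ : F)) / t)) = 1
    rw [e1, mul_div_cancel₀ _ ht]
    linear_combination u.mul_inv + ((u : F) * (u : F)) * h2
  · rintro ⟨⟨x, y⟩, hp⟩
    have hy : (x + r * y + (x + r * y + t * y)) / t = y := by
      rw [div_eq_iff ht]; linear_combination (x + r * y) * h2
    refine Subtype.ext (Prod.ext ?_ ?_)
    · show x + r * y + r * ((x + r * y + (x + r * y + t * y)) / t) = x
      rw [hy]; linear_combination (r * y) * h2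
    · exact hy
  · intro u
    ext
    show (u : F) + r * (((u : F) + (↑u⁻¹ : F)) / t) + r * (((u : F) + (↑u⁻¹ : F)) / t) = u
    linear_combination (r * (((u : F) + (↑u⁻¹ : F)) / t)) * h2

theorem card_cent_anisotropic (h2 : (2 : F) = 0) {s : S2} (hs : s ≠ 1)
    (hr : ∀ r : F, r ^ 2 + (s.1 0 0 + s.1 1 1) * r + 1 ≠ 0) :
    Nat.card (cent s) = Fintype.card F + 1 := by
  rw [card_cent_eq_conic h2 hs]
  refine CfsgLib.Classical.card_conic fun z₁ z₂ h => ?_
  by_cases hz : z₂ = 0
  · subst hz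
    exact ⟨pow_eq_zero_iff two_ne_zero |>.1 (by linear_combination h), rfl⟩
  · refine absurd ?_ (hr (z₁ / z₂))
    field_simp
    linear_combination h

theorem exists_not_root (h2 : (2 : F) = 0) : ∃ t : F, ∀ r : F, r ^ 2 + t * r + 1 ≠ 0 := by
  classical
  by_contra h
  push Not at h
  choose r hr using h
  have hr0 : ∀ t, r t ≠ 0 := fun t e => by simpa [e] using hr t
  have hinj : Function.Injective fun t => Units.mk0 (r t) (hr0 t) := by
    intro a b e
    have e' : r a = r b := congrArg Units.val e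
    have ha := hr a
    rw [e'] at ha
    exact mul_right_cancel₀ (hr0 b) (by linear_combination ha - hr b)
  have := Fintype.card_le_of_injective _ hinj
  rw [Fintype.card_units] at this
  have := Fintype.card_pos (α := F)
  omega

/-- The three centraliser orders of `SL2` in characteristic two. -/
theorem cent_values (h2 : (2 : F) = 0) (hq : 4 ≤ Fintype.card F) :
    {v : ℕ | ∃ s : S2, s ≠ 1 ∧ Nat.card (cent s) = v} =
      {Fintype.card F, Fintype.card F - 1, Fintype.card F + 1} := by
  ext v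
  simp only [Set.mem_setOf_eq, Set.mem_insert_iff, Set.mem_singleton_iff]
  constructor
  · rintro ⟨s, hs, rfl⟩
    by_cases ht : s.1 0 0 + s.1 1 1 = 0
    · exact Or.inl (card_cent_unipotent h2 hs ht)
    by_cases hr : ∃ r : F, r ^ 2 + (s.1 0 0 + s.1 1 1) * r + 1 = 0
    · obtain ⟨r, hr⟩ := hr
      exact Or.inr (Or.inl (card_cent_split h2 hs ht hr))
    · push Not at hr
      exact Or.inr (Or.inr (card_cent_anisotropic h2 hs hr))
  · rintro (rfl | rfl | rfl)
    · let s : S2 := ⟨!![1, 1; 0, 1], by simp [Matrix.det_fin_two]⟩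
      have hs : s ≠ 1 := fun e => by
        have := congrFun (congrFun (congrArg Subtype.val e) 0) 1
        simp [s] at this
      refine ⟨s, hs, card_cent_unipotent h2 hs ?_⟩
      simp [s]
      linear_combination h2
    · classical
      obtain ⟨a, -, ha⟩ := Finset.exists_mem_notMem_of_card_lt_card
        (s := ({0, 1} : Finset F)) (t := Finset.univ)
        (lt_of_le_of_lt Finset.card_le_two (by rw [Finset.card_univ]; omega))
      simp only [Finset.mem_insert, Finset.mem_singleton, not_or] at ha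
      let s : S2 := ⟨!![a, 0; 0, a⁻¹], by simp [Matrix.det_fin_two, ha.1]⟩
      have hs : s ≠ 1 := fun e => by
        have := congrFun (congrFun (congrArg Subtype.val e) 0) 0
        simp [s] at this
        exact ha.2 this
      refine ⟨s, hs, card_cent_split h2 hs (r := a) ?_ ?_⟩
      · simp [s]
        intro h
        refine ha.2 (sub_eq_zero.1 (mul_self_eq_zero.1 ?_))
        have h' : a * (a + a⁻¹) = 0 := by rw [h, mul_zero]
        rw [mul_add, mul_inv_cancel₀ ha.1] at h'
        linear_combination h' - a * h2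
      · simp [s]
        field_simp [ha.1]
        linear_combination (a ^ 2 + 1) * h2
    · obtain ⟨t, ht⟩ := exists_not_root h2
      let s : S2 := ⟨!![0, 1; 1, t], by simp [Matrix.det_fin_two]; linear_combination -h2⟩
      have hs : s ≠ 1 := fun e => by
        have := congrFun (congrFun (congrArg Subtype.val e) 0) 0
        simp [s] at this
      exact ⟨s, hs, card_cent_anisotropic h2 hs fun r => by simpa [s] using ht r⟩

end CfsgLib.InvChar.ConjRank
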