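import Cfsg.Agent.Lib.InvChar.ConjRank.CentreFreeBasic
import Cfsg.Agent.Lib.InvChar.ConjRank.RankThree
import Cfsg.Agent.Lib.StructB.Kazarin
import Cfsg.Agent.Lib.Solvable.FixedPointFree

/-!
# A centraliser order not comparable with two others

With trivial centre and no solvable conclusion such an order is that of an abelian subgroup which
is the centraliser of each of its non-identity elements and is prime to the two other orders.
-/

set_option autoImplicit false

namespace CfsgLib.InvChar.ConjRank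

open scoped Pointwise

universe u

variable {G : Type u} [Group G] [Finite G]

local notation "n[" x "]" => Nat.card (cent x)

/-- A value properly below a second one, the third one incomparable with both. -/
structure Apart (G : Type u) [Group G] (a b c : ℕ) : Prop where
  val : ∀ x : G, x ≠ 1 → Nat.card (cent x) = a ∨ Nat.card (cent x) = b ∨ Nat.card (cent x) = c
  hab : a ∣ b
  hne : a ≠ b
  hbc : ¬ b ∣ c
  hcb : ¬ c ∣ b
  hac : ¬ a ∣ c

omit [Finite G] in
theorem Apart.hca {a b c : ℕ} (h : Apart G a b c) : ¬ c ∣ a := fun e => h.hcb (e.trans h.hab)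

omit [Finite G] in
theorem Apart.minC_low {a b c : ℕ} (h : Apart G a b c) {z : G} (hz : n[z] = a) : MinC z := by
  intro v hv hd
  rw [hz] at hd ⊢
  rcases h.val v hv with e | e | e <;> rw [e] at hd
  · exact e
  · exact absurd (Nat.dvd_antisymm h.hab hd) h.hne
  · exact absurd hd h.hca

omit [Finite G] in
theorem Apart.minC_apart {a b c : ℕ} (h : Apart G a b c) {z : G} (hz : n[z] = c) : MinC z := by
  intro v hv hd
  rw [hz] at hd ⊢
  rcases h.val v hv with e | e | e <;> rw [e] at hd
  · exact absurd hd h.hac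
  · exact absurd hd h.hbc
  · exact e

theorem Apart.cent_eq_of_le {a b c : ℕ} (h : Apart G a b c) {z v : G} (hv : v ≠ 1)
    (hz : n[z] = c) (hle : cent z ≤ cent v) : cent z = cent v := by
  have hd := Subgroup.card_dvd_of_le hle
  refine eq_of_le_of_dvd hle ?_
  rw [hz] at hd ⊢
  rcases h.val v hv with e | e | e <;> rw [e] at hd ⊢
  · exact absurd hd h.hca
  · exact absurd hd h.hcb

theorem Apart.cent_eq_of_le_b {a b c : ℕ} (h : Apart G a b c) {z v : G} (hv : v ≠ 1)
    (hz : n[z] = b) (hle : cent z ≤ cent v) : cent z = cent v := by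
  have hd := Subgroup.card_dvd_of_le hle
  refine eq_of_le_of_dvd hle ?_
  rw [hz] at hd ⊢
  rcases h.val v hv with e | e | e <;> rw [e] at hd ⊢
  · exact absurd (Nat.dvd_antisymm h.hab hd) h.hne
  · exact absurd hd h.hbc

theorem Apart.lcm_eq {a b c : ℕ} (h : Apart G a b c) {x y : G} (hx : n[x] = b) (hy : n[y] = c) :
    b.lcm c = Nat.card G :=
  Nat.dvd_antisymm (Nat.lcm_dvd (hx ▸ Subgroup.card_subgroup_dvd_card _)
    (hy ▸ Subgroup.card_subgroup_dvd_card _)) (dvd_lcm_of_values h.hab h.val)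

/-- A prime order element of the same kind. -/
theorem Apart.exists_prime_order_b {a b c : ℕ} (h : Apart G a b c) {x : G} (hx : x ≠ 1)
    (hxb : n[x] = b) : ∃ (x' : G) (s : ℕ), s.Prime ∧ orderOf x' = s ∧ n[x'] = b := by
  obtain ⟨s, k, hs, ho⟩ := exists_prime_pow_order hx
  exact ⟨x ^ k, s, hs, ho,
    by rw [← h.cent_eq_of_le_b (ne_one_of_orderOf_prime hs ho) hxb (cent_le_pow x k), hxb]⟩

theorem Apart.coprime_of_cent_eq {a b c : ℕ} (h : Apart G a b c) {x y : G} (hx : x ≠ 1)
    (hxb : n[x] = b) (hyc : n[y] = c) (hcent : ∀ v ∈ cent y, v ≠ 1 → cent v = cent y) :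
    b.Coprime c := by
  by_contra hg
  have hinf : 1 < Nat.card (cent x ⊓ cent y : Subgroup G) := by
    rw [(card_inf_eq_gcd (by rw [hxb, hyc, h.lcm_eq hxb hyc])).1, hxb, hyc]
    exact lt_of_le_of_ne (Nat.gcd_pos_of_pos_left _ (hxb ▸ Nat.card_pos)) (Ne.symm hg)
  obtain ⟨e, he, he1⟩ := (Subgroup.bot_or_exists_ne_one _).resolve_left
    ((Subgroup.one_lt_card_iff_ne_bot _).mp hinf)
  have hxC : x ∈ cent y := hcent e he.2 he1 ▸ mem_cent_comm.mp he.1
  exact h.hcb (hxb ▸ hyc ▸ hcent x hxC hx ▸ dvd_rfl)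

theorem dvd_prime_pow_of {n p k : ℕ} (hn : n ≠ 0) (hp : p.Prime)
    (h : ∀ d, d.Prime → d ∣ n → d = p) (hk : n.factorization p ≤ k) : n ∣ p ^ k := by
  have e := Nat.eq_prime_pow_of_unique_prime_dvd hn (fun {d} hd hdn => h d hd hdn)
  rw [e] at hk ⊢
  rw [hp.factorization_pow, Finsupp.single_eq_same] at hk
  exact pow_dvd_pow p hk

/-- The order `c` is not a power of a prime, or the Sylow subgroups of that order are abelian. -/
theorem Apart.cent_eq_of_prime_pow {a b c : ℕ} (h : Apart G a b c) (hns : ¬ Group.IsSolvable G)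
    {x₀ y : G} (hx₀ : x₀ ≠ 1) (hx₀b : n[x₀] = b) {p k : ℕ} (hp : p.Prime) (hyc : n[y] = c)
    (hck : c = p ^ k) :
    ∃ z : G, n[z] = c ∧ ∀ v ∈ cent z, v ≠ 1 → cent v = cent z := by
  classical
  have : Fact p.Prime := ⟨hp⟩
  set R := Cfsg.solvableRadical G with hR
  have hRn : R.Normal := solvableRadical_spec.1
  have hRs : Group.IsSolvable R := solvableRadical_spec.2
  have hb0 : b ≠ 0 := hx₀b ▸ Nat.card_pos.ne'
  have hc0 : c ≠ 0 := hyc ▸ Nat.card_pos.ne'
  have hlcm := h.lcm_eq hx₀b hyc
  have hGfac : ∀ r, (Nat.card G).factorization r = max (b.factorization r) (c.factorization r) := by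
    intro r; rw [← hlcm, Nat.factorization_lcm hb0 hc0]; rfl
  have hcp : c.factorization p = k := by rw [hck, hp.factorization_pow, Finsupp.single_eq_same]
  have hco : ∀ r, r ≠ p → c.factorization r = 0 := fun r hr => by
    rw [hck, hp.factorization_pow, Finsupp.single_eq_of_ne hr]
  have hbk : b.factorization p < k := by
    by_contra hle
    push Not at hle
    exact h.hcb (hck ▸ (hp.pow_dvd_iff_le_factorization hb0).mpr hle)
  have hGp : (Nat.card G).factorization p = k := by rw [hGfac, hcp]; omega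
  -- the elements of kind `b` lie in the radical
  have hindex : ∀ {v : G}, n[v] = b → (cent v).index ∣ p ^ k := by
    intro v hv
    refine Nat.dvd_of_mul_dvd_mul_left (Nat.card_pos (α := cent v)) ?_
    rw [Subgroup.card_mul_index, ← hlcm, hv, ← hck]
    exact Nat.lcm_dvd_mul b c
  have hbR : ∀ {v : G}, (cent v).index ∣ p ^ k → v ∈ R := fun {v} hv =>
    le_solvableRadical Subgroup.normalClosure_normal
      (CfsgLib.StructB.Kazarin.isSolvable_normalClosure hp k _ G rfl v hv)
      (Subgroup.subset_normalClosure (Set.mem_singleton v))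
  have hpow : ∀ {v : G}, n[v] = c → ∀ u ∈ cent v, ∃ i, orderOf u = p ^ i := by
    intro v hv u hu
    obtain ⟨i, -, hi⟩ := (Nat.dvd_prime_pow hp).mp
      (show orderOf u ∣ p ^ k by rw [← hck, ← hv]; exact Subgroup.orderOf_dvd_natCard _ hu)
    exact ⟨i, hi⟩
  -- centres of Sylow subgroups
  have hzS : ∀ S : Sylow p G, ∃ z : G, orderOf z = p ∧ cent z = (S : Subgroup G) := by
    intro S
    have hS := S.card_eq_multiplicity
    rw [hGp] at hS
    have hdvd : p ∣ Nat.card (S : Subgroup G) := hS ▸ dvd_pow_self p (by omega)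
    obtain ⟨z, hzS, oz, hfull⟩ := exists_orderOf_full_in (S : Subgroup G) hp hdvd
    rw [hS, hp.factorization_pow, Finsupp.single_eq_same] at hfull
    have hz1 := ne_one_of_orderOf_prime hp oz
    have h2 : (S : Subgroup G) ⊓ cent z = S := eq_of_le_of_dvd inf_le_left
      (hS ▸ (hp.pow_dvd_iff_le_factorization Nat.card_pos.ne').mpr hfull)
    have hle : (S : Subgroup G) ≤ cent z := inf_eq_left.mp h2
    have hge : k ≤ (n[z]).factorization p := hfull.trans (factorization_card_le inf_le_right p)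
    have hzc : n[z] = c := by
      rcases h.val z hz1 with e | e | e
      · rw [e] at hge; have := factorization_le_of_dvd hb0 h.hab p; omega
      · rw [e] at hge; omega
      · exact e
    exact ⟨z, oz, (eq_of_le_of_dvd hle (by rw [hzc, hck, hS])).symm⟩
  have hnp : ∃ r, r.Prime ∧ r ∣ Nat.card G ∧ r ≠ p := by
    by_contra hno
    push Not at hno
    have hG : IsPGroup p G := IsPGroup.of_card
      (Nat.eq_prime_pow_of_unique_prime_dvd Nat.card_pos.ne' fun {d} hd hdv => hno d hd hdv)
    have := hG.isNilpotent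
    exact hns inferInstance
  have hsylow : ∀ {e : G}, orderOf e = p → ∃ S : Sylow p G, e ∈ (S : Subgroup G) := by
    intro e oe
    obtain ⟨S, hS⟩ := (IsPGroup.of_card (p := p) (n := 1)
      (by rw [pow_one, Nat.card_zpowers, oe] : Nat.card (Subgroup.zpowers e) = p ^ 1)).exists_le_sylow
    exact ⟨S, hS (Subgroup.mem_zpowers e)⟩
  -- the prime does not divide `b`
  have hpb : ¬ p ∣ b := by
    intro hpb
    obtain ⟨x', s, hs, ox', hx'b⟩ := h.exists_prime_order_b hx₀ hx₀b
    obtain ⟨x, ox, hxb⟩ : ∃ x : G, orderOf x = p ∧ n[x] = b := by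
      by_cases hsp : s = p
      · exact ⟨x', hsp ▸ ox', hx'b⟩
      obtain ⟨⟨e, he⟩, oe⟩ := exists_prime_orderOf_dvd_card' (G := cent x') p (hx'b.symm ▸ hpb)
      rw [Subgroup.orderOf_mk] at oe
      have he1 := ne_one_of_orderOf_prime hp oe
      rcases h.val e he1 with ea | eb | ec
      · exfalso
        obtain ⟨S, hS⟩ := hsylow oe
        obtain ⟨z, oz, hz⟩ := hzS S
        have hze : z ∈ cent e := mem_cent_comm.mp (hz.symm.le hS)
        have h1 := central_of_min he1 (h.minC_low ea) (mem_cent_comm.mp he)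
          (by rw [oe, ox', Nat.coprime_primes hp hs]; exact Ne.symm hsp) hze
        have h2 : x' ∈ (S : Subgroup G) := hz ▸ mem_cent_comm.mp h1
        obtain ⟨i, hi⟩ := S.isPGroup' ⟨x', h2⟩
        have h3 := orderOf_dvd_of_pow_eq_one (congrArg Subtype.val hi : x' ^ p ^ i = 1)
        rw [ox'] at h3
        exact hsp ((Nat.prime_dvd_prime_iff_eq hs hp).mp (hs.dvd_of_dvd_pow h3))
      · exact ⟨e, oe, eb⟩
      · exfalso
        obtain ⟨i, hi⟩ := hpow ec x' (mem_cent_comm.mp he)
        rw [ox'] at hi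
        exact hsp ((Nat.prime_dvd_prime_iff_eq hs hp).mp (hs.dvd_of_dvd_pow (dvd_of_eq hi)))
    obtain ⟨S', hS'⟩ := hsylow ox
    obtain ⟨z', oz', hz'⟩ := hzS S'
    have hfull : ∀ r, r.Prime → r ≠ p → r ∣ Nat.card G →
        (Nat.card G).factorization r ≤ a.factorization r := by
      intro r hr hrp hrG
      have hbr : (Nat.card G).factorization r = b.factorization r := by
        rw [hGfac, hco r hrp]; exact max_eq_left (Nat.zero_le _)
      have hpos : 0 < b.factorization r :=
        hbr ▸ hr.factorization_pos_of_dvd Nat.card_pos.ne' hrG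
      obtain ⟨w, hw, ow, hwfull⟩ := exists_orderOf_full_in (cent x) hr
        (Nat.dvd_of_factorization_pos (by rw [hxb]; omega))
      have hwx : (orderOf w).Coprime (orderOf x) := by
        rw [ow, ox]; exact (Nat.coprime_primes hr hp).mpr hrp
      have hwc := cent_mul_eq_of_coprime (mem_cent.mp hw) hwx
      have h0 : b.factorization r ≤ (n[w * x]).factorization r := by
        rw [hwc, inf_comm, ← hxb]; exact hwfull
      have hne := mul_ne_one_of_coprime (ne_one_of_orderOf_prime hr ow) hwx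
      rcases h.val _ hne with e | e | e
      · rw [e] at h0; omega
      · exfalso
        have he : cent (w * x) = cent x := eq_of_le_of_dvd (hwc.le.trans inf_le_right)
          (by rw [e, hxb])
        have hx' : z' ∈ cent x := mem_cent_comm.mp (hz'.symm.le hS')
        have h1 : w ∈ (S' : Subgroup G) :=
          hz' ▸ mem_cent_comm.mp ((he.symm.le.trans (hwc.le.trans inf_le_left)) hx')
        obtain ⟨i, hi⟩ := S'.isPGroup' ⟨w, h1⟩
        have h3 := orderOf_dvd_of_pow_eq_one (congrArg Subtype.val hi : w ^ p ^ i = 1)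
        rw [ow] at h3
        exact hrp ((Nat.prime_dvd_prime_iff_eq hr hp).mp (hr.dvd_of_dvd_pow h3))
      · rw [e, hco r hrp] at h0; omega
    have hin : ∀ u : G, ∀ r i : ℕ, r.Prime → r ≠ p → orderOf u = r ^ i → u ∈ R := by
      intro u r i hr hrp ou
      rcases eq_or_ne u 1 with rfl | hu
      · exact R.one_mem
      refine hbR ?_
      rcases h.val u hu with e | e | e
      · refine dvd_prime_pow_of Subgroup.index_ne_zero_of_finite hp
          (fun d hd hdu => ?_) (hGp ▸ factorization_le_of_dvd Nat.card_pos.ne' (cent u).index_dvd_card p)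
        by_contra hdp
        have h1 := hfull d hd hdp (hdu.trans (cent u).index_dvd_card)
        rw [← e, ← Subgroup.card_mul_index (cent u), Nat.factorization_mul Nat.card_pos.ne'
          Subgroup.index_ne_zero_of_finite, Finsupp.add_apply] at h1
        have := hd.factorization_pos_of_dvd Subgroup.index_ne_zero_of_finite hdu
        omega
      · exact hindex e
      · obtain ⟨j, hj⟩ := hpow e u (self_mem_cent u)
        rw [ou] at hj
        rcases Nat.eq_zero_or_pos i with rfl | hi
        · exact absurd (orderOf_eq_one_iff.mp (by rw [ou, pow_zero])) hu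
        · exact absurd ((Nat.prime_dvd_prime_iff_eq hr hp).mp
            (hr.dvd_of_dvd_pow (hj ▸ dvd_pow_self r hi.ne'))) hrp
    refine hns (isSolvable_of_quotient R hRs ?_)
    have hdiv : R.index ∣ p ^ R.index.factorization p := by
      refine dvd_prime_pow_of Subgroup.index_ne_zero_of_finite hp (fun d hd hdR => ?_) le_rfl
      by_contra hdp
      have : Fact d.Prime := ⟨hd⟩
      obtain ⟨D⟩ := (inferInstance : Nonempty (Sylow d G))
      refine D.not_dvd_index (hdR.trans (Subgroup.index_dvd_of_le fun u hu => ?_))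
      obtain ⟨i, hi⟩ := D.isPGroup' ⟨u, hu⟩
      obtain ⟨l, -, hl⟩ := (Nat.dvd_prime_pow hd).mp
        (orderOf_dvd_of_pow_eq_one (congrArg Subtype.val hi : u ^ d ^ i = 1))
      exact hin u d l hd hdp hl
    obtain ⟨n, -, hn⟩ := (Nat.dvd_prime_pow hp).mp hdiv
    have hq : IsPGroup p (G ⧸ R) := IsPGroup.of_card (n := n) (by rw [← Subgroup.index_eq_card, hn])
    have := hq.isNilpotent
    infer_instance
  have hpa : ¬ p ∣ a := fun e => hpb (e.trans h.hab)
  -- every `p`-element is central in a Sylow subgroup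
  have hpel : ∀ {v : G}, v ≠ 1 → (∃ i, orderOf v = p ^ i) → n[v] = c := by
    rintro v hv ⟨i, hi⟩
    have hi0 : i ≠ 0 := by
      rintro rfl
      exact hv (orderOf_eq_one_iff.mp (by rw [hi, pow_zero]))
    have hd : p ∣ n[v] := (hi ▸ dvd_pow_self p hi0 : p ∣ orderOf v).trans
      (Subgroup.orderOf_dvd_natCard _ (self_mem_cent v))
    rcases h.val v hv with e | e | e
    · exact absurd (e ▸ hd) hpa
    · exact absurd (e ▸ hd) hpb
    · exact e
  have hordp : ∀ {H : Subgroup G}, IsPGroup p H → ∀ u ∈ H, ∃ i, orderOf u = p ^ i := by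
    intro H hH u hu
    obtain ⟨i, hi⟩ := hH ⟨u, hu⟩
    obtain ⟨l, -, hl⟩ := (Nat.dvd_prime_pow hp).mp
      (orderOf_dvd_of_pow_eq_one (congrArg Subtype.val hi : u ^ p ^ i = 1))
    exact ⟨l, hl⟩
  obtain ⟨x, s, hs, ox, hxb⟩ := h.exists_prime_order_b hx₀ hx₀b
  have hRne : R ≠ ⊥ := fun e => ne_one_of_orderOf_prime hs ox
    (Subgroup.mem_bot.mp (e ▸ hbR (hindex hxb)))
  obtain ⟨A, hAn, hAne, hAR, hAmin⟩ := CfsgLib.Solvable.exists_minimal_normal_le hRn hRne
  have hAs : Group.IsSolvable A :=
    Group.isSolvable_of_isSolvable_injective (f := Subgroup.inclusion hAR)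
      (Subgroup.inclusion_injective hAR)
  have hAc := CfsgLib.Solvable.isMulCommutative_of_minimal_normal hAne hAmin
  obtain ⟨q, hq, hAq⟩ := CfsgLib.Solvable.exists_prime_pow_eq_one_of_minimal_normal hAne hAmin
  obtain ⟨S⟩ := (inferInstance : Nonempty (Sylow p G))
  obtain ⟨z, oz, hz⟩ := hzS S
  have hz1 := ne_one_of_orderOf_prime hp oz
  refine ⟨z, hpel hz1 ⟨1, by rw [oz, pow_one]⟩, fun v hv hv1 => ?_⟩
  rw [hz] at hv
  have hvc := hpel hv1 (hordp S.isPGroup' v hv)
  have hScard : Nat.card (S : Subgroup G) = c := by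
    rw [S.card_eq_multiplicity, hGp, hck]
  suffices hle : cent v ≤ cent z from eq_of_le_of_dvd hle (by rw [hvc, hz, hScard])
  by_cases hqp : q = p
  · -- a normal `p`-subgroup: the Sylow subgroup is normal
    subst hqp
    have hAp : IsPGroup q A := fun w => ⟨1, Subtype.ext (by simpa using hAq w w.2)⟩
    obtain ⟨w, hw, hw1⟩ := (Subgroup.bot_or_exists_ne_one A).resolve_left hAne
    have hwc := hpel hw1 (hordp hAp w hw)
    have hall : ∀ u : G, (∃ i, orderOf u = q ^ i) → u ∈ cent w := by
      intro u hu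
      rcases eq_or_ne u 1 with rfl | hu1
      · exact one_mem _
      obtain ⟨T, hT⟩ := (IsPGroup.of_card (p := q) (n := k)
        (by rw [hpel hu1 hu, hck] : n[u] = q ^ k)).exists_le_sylow
      have hTe : cent u = (T : Subgroup G) :=
        eq_of_le_of_dvd hT (by rw [hpel hu1 hu, T.card_eq_multiplicity, hGp, hck])
      have hAT : A ≤ (T : Subgroup G) := by
        have h1 := IsPGroup.to_sup_of_normal_left (hAp) T.isPGroup'
        exact le_sup_left.trans (T.is_maximal' h1 le_sup_right).le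
      exact mem_cent_comm.mp (hTe.symm.le (hAT hw))
    have hwS : cent w = (S : Subgroup G) := (eq_of_le_of_dvd (fun u hu => hall u (hordp S.isPGroup' u hu))
      (by rw [hwc, hScard])).symm
    intro u hu
    rw [hz, ← hwS]
    exact hall u (hpow hvc u hu)
  · -- the Sylow subgroup acts freely on an abelian normal subgroup
    have : Nontrivial A := A.nontrivial_iff_ne_bot.mpr hAne
    let _ : CommGroup A := { (inferInstance : Group A) with mul_comm := hAc.is_comm.comm }
    let φ : (S : Subgroup G) →* MulAut A := MulAut.conjNormal.comp (S : Subgroup G).subtype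
    have hfpf : ∀ u : (S : Subgroup G), u ≠ 1 → ∀ w : A, φ u w = w → w = 1 := by
      intro u hu w hw
      by_contra hw1
      have hwu : (w : G) ∈ cent (u : G) := by
        refine mem_cent.mpr ?_
        have e := congrArg Subtype.val hw
        simp only [φ, MonoidHom.coe_comp, Function.comp_apply, Subgroup.coe_subtype,
          MulAut.conjNormal_apply] at e
        exact (mul_inv_eq_iff_eq_mul.mp e).symm
      obtain ⟨i, hi⟩ := hpow (hpel (fun e => hu (Subtype.ext e)) (hordp S.isPGroup' u u.2)) w hwu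
      have h1 : orderOf (w : G) ∣ q := orderOf_dvd_of_pow_eq_one (hAq w w.2)
      rcases (Nat.dvd_prime hq).mp h1 with e | e
      · exact hw1 (Subtype.ext (orderOf_eq_one_iff.mp e))
      · rw [hi] at e
        exact hqp ((Nat.prime_dvd_prime_iff_eq hq hp).mp (hq.dvd_of_dvd_pow (dvd_of_eq e.symm)))
    obtain ⟨i, hi⟩ := hordp S.isPGroup' v hv
    have hi0 : i ≠ 0 := by
      rintro rfl
      exact hv1 (orderOf_eq_one_iff.mp (by rw [hi, pow_zero]))
    have hzS' : z ∈ (S : Subgroup G) := hz ▸ self_mem_cent z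
    have hvp : orderOf (v ^ (p ^ (i - 1))) = p := by
      rw [orderOf_pow' v (pow_ne_zero _ hp.ne_zero), hi,
        Nat.gcd_eq_right (pow_dvd_pow p (Nat.sub_le i 1)), Nat.pow_div (Nat.sub_le i 1) hp.pos,
        show i - (i - 1) = 1 by omega, pow_one]
    have heq := CfsgLib.Solvable.zpowers_eq_of_commute_of_fpf φ hfpf hp
      (x := (⟨z, hzS'⟩ : (S : Subgroup G))) (y := ⟨v ^ (p ^ (i - 1)), pow_mem hv _⟩)
      (by rw [Subgroup.orderOf_mk, oz]) (by rw [Subgroup.orderOf_mk, hvp])
      (Subtype.ext (mem_cent.mp (hz.symm.le (pow_mem hv _))).eq.symm)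
    obtain ⟨l, hl⟩ := Subgroup.mem_zpowers_iff.mp
      (heq.le (Subgroup.mem_zpowers (⟨z, hzS'⟩ : (S : Subgroup G))))
    have hl' : (v ^ (p ^ (i - 1))) ^ l = z := congrArg Subtype.val hl
    intro u hu
    rw [← hl']
    exact mem_cent.mpr (((mem_cent.mp hu).pow_right _).zpow_right l)

/-- The abelian subgroup belonging to an order not comparable with the others. -/
theorem Apart.exists_abelian {a b c : ℕ} (h : Apart G a b c) (hns : ¬ Group.IsSolvable G)
    {x₀ y : G} (hx₀ : x₀ ≠ 1) (hx₀b : n[x₀] = b) (hy : y ≠ 1) (hyc : n[y] = c) :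
    ∃ C : Subgroup G, IsMulCommutative C ∧ (∀ v ∈ C, v ≠ 1 → cent v = C) ∧ Nat.card C = c ∧
      b.Coprime c := by
  classical
  suffices hz : ∃ z : G, n[z] = c ∧ ∀ v ∈ cent z, v ≠ 1 → cent v = cent z by
    obtain ⟨z, hzc, hcent⟩ := hz
    refine ⟨cent z, ⟨⟨fun u v => Subtype.ext ?_⟩⟩, hcent, hzc,
      h.coprime_of_cent_eq hx₀ hx₀b hzc hcent⟩
    rcases eq_or_ne (v : G) 1 with e | e
    · simp [e]
    · exact (mem_cent.mp ((hcent v v.2 e).symm.le u.2)).eq
  obtain ⟨p, kp, hp, hop⟩ := exists_prime_pow_order hy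
  set y₀ := y ^ kp
  have hy₀ : y₀ ≠ 1 := ne_one_of_orderOf_prime hp hop
  have hy₀c : n[y₀] = c := by rw [← h.cent_eq_of_le hy₀ hyc (cent_le_pow y kp), hyc]
  by_cases hr' : ∃ r, r.Prime ∧ r ≠ p ∧ r ∣ c
  · obtain ⟨r, hr, hrp, hrc⟩ := hr'
    have : Fact r.Prime := ⟨hr⟩
    obtain ⟨⟨z, hzC⟩, hzo⟩ := exists_prime_orderOf_dvd_card' (G := cent y₀) r (hy₀c.symm ▸ hrc)
    rw [Subgroup.orderOf_mk] at hzo
    have hCz : cent y₀ = cent z := h.cent_eq_of_le (ne_one_of_orderOf_prime hr hzo) hy₀c
      (central_of_min hy₀ (h.minC_apart hy₀c) hzC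
        (by rw [hop, hzo]; exact (Nat.coprime_primes hp hr).mpr hrp.symm))
    refine ⟨y₀, hy₀c, fun v hv hv1 => (h.cent_eq_of_le hv1 hy₀c fun u hu => mem_cent.mpr ?_).symm⟩
    exact commute_of_two_min hp hr hrp.symm hop hzo (h.minC_apart hy₀c)
      (h.minC_apart (by rw [← hCz, hy₀c])) hCz hu hv
  · push Not at hr'
    exact h.cent_eq_of_prime_pow hns hx₀ hx₀b hp hy₀c
      (Nat.eq_prime_pow_of_unique_prime_dvd (hyc ▸ Nat.card_pos.ne')
        fun {d} hd hdc => by_contra fun hne => hr' d hd hne hdc)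

end CfsgLib.InvChar.ConjRank
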